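import Cfsg.Agent.Lib.E8Cent.Group
import Cfsg.Agent.Lib.SchurMult.O82Group
import Cfsg.Agent.Lib.SchurMult.Sp62Group

/-! Actions on lines of roots. -/

set_option autoImplicit false
set_option maxRecDepth 20000
set_option linter.unusedSimpArgs false

noncomputable section

namespace Cfsg.Agent.E8Cent

open Cfsg Cfsg.Agent.Golay Cfsg.Agent.Leech Cfsg.Agent.PermCert Finset

attribute [local irreducible] e8Gens e8Derived e8Levels e8Mat0 e8Mat1 e8Tree rootList

/-- The opposite root. -/
def negF (i : Fin 240) : Fin 240 := Fin.ofNat 240 (get 8 negCode i)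

theorem rootV_negF (i : Fin 240) : rootV (negF i) = -rootV i := by
  have h := allBelow_spec _ _ neg_ok i i.2
  simp only [Bool.and_eq_true, Nat.blt_eq, SporPerm.eqV_iff] at h
  obtain ⟨hlt, he⟩ := h
  refine Subtype.ext (funext fun p => ?_)
  show emb (rootY (negF i)) p = -emb (rootY i) p
  have e : rootY (negF i) = (rootY i).map fun a => -a := by
    unfold rootY
    rw [← List.getD_eq_getElem _ [], ← List.getD_eq_getElem _ [],
      show ((negF i : Fin 240) : ℕ) = get 8 negCode i from Nat.mod_eq_of_lt hlt]
    exact he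
  rw [e]
  simp only [emb]
  have := List.getD_map (l := rootY i) (d := (0 : ℤ)) (n := pos p) (fun a : ℤ => -a)
  rw [neg_zero] at this
  rw [this]
  ring

theorem negF_ne (i : Fin 240) : negF i ≠ i := fun e => by
  have h := congrArg rootV e
  rw [rootV_negF] at h
  have hs := sqNorm_root i
  have h0 : (rootV i : GolayPt → ℤ) = 0 := funext fun p => by
    have := congrFun (congrArg Subtype.val h) p
    simp only [AddSubgroup.coe_neg, Pi.neg_apply, Pi.zero_apply] at this ⊢
    omega
  rw [h0] at hs
  simp [sqNorm] at hs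

theorem rho_negF (g : Cc) (i : Fin 240) : rho g (negF i) = negF (rho g i) := rootV_inj (by
  rw [rho_spec, rootV_negF, rootV_negF, co0_neg, rho_spec])

/-- A table of lines among the roots with a property. -/
def linesOK (w m secC lineC : ℕ) (M : ℕ → Bool) : Bool :=
  allBelow (fun j => Nat.blt (get 8 secC j) 240 && M (get 8 secC j) &&
    Nat.beq (get w lineC (get 8 secC j)) j) m &&
  allBelow (fun i => !M i || (Nat.blt (get w lineC i) m && M (get 8 negCode i) &&
    Nat.beq (get w lineC (get 8 negCode i)) (get w lineC i) &&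
    (Nat.beq (get 8 secC (get w lineC i)) i ||
      Nat.beq (get 8 negCode (get 8 secC (get w lineC i))) i))) 240

variable {w m secC lineC : ℕ} [NeZero m] {M : ℕ → Bool} {H : Type*} [Group H]

/-- The representative root of a line. -/
def secF (secC : ℕ) (j : Fin m) : Fin 240 := Fin.ofNat 240 (get 8 secC j)

/-- The line of a root. -/
def lineF (w lineC : ℕ) (i : Fin 240) : Fin m := Fin.ofNat m (get w lineC i)

theorem sec_facts (h : linesOK w m secC lineC M = true) (j : Fin m) :
    M (secF secC j : Fin 240) = true ∧ lineF w lineC (secF secC j) = j ∧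
      ((secF secC j : Fin 240) : ℕ) = get 8 secC j := by
  simp only [linesOK, Bool.and_eq_true] at h
  have := allBelow_spec _ _ h.1 j j.2
  simp only [Bool.and_eq_true, Nat.blt_eq, Nat.beq_eq] at this
  obtain ⟨⟨h1, h2⟩, h3⟩ := this
  have e : ((secF secC j : Fin 240) : ℕ) = get 8 secC j := Nat.mod_eq_of_lt h1
  exact ⟨by rw [e]; exact h2,
    Fin.ext (by rw [lineF, Fin.val_ofNat, e, h3, Nat.mod_eq_of_lt j.2]), e⟩

theorem line_facts (h : linesOK w m secC lineC M = true) {i : Fin 240} (hi : M i = true) :
    M (negF i : Fin 240) = true ∧ (lineF w lineC (negF i) : Fin m) = lineF w lineC i ∧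
      (i = secF secC (lineF w lineC i : Fin m) ∨ i = negF (secF secC (lineF w lineC i : Fin m))) ∧
      ((lineF w lineC i : Fin m) : ℕ) = get w lineC i := by
  have h0 := h
  simp only [linesOK, Bool.and_eq_true] at h
  have := allBelow_spec _ _ h.2 i i.2
  simp only [hi, Bool.not_true, Bool.false_or, Bool.and_eq_true, Bool.or_eq_true, Nat.blt_eq,
    Nat.beq_eq] at this
  obtain ⟨⟨⟨h1, h2⟩, h3⟩, h4⟩ := this
  have hn : ((negF i : Fin 240) : ℕ) = get 8 negCode i := by
    have := allBelow_spec _ _ neg_ok i i.2
    simp only [Bool.and_eq_true, Nat.blt_eq] at this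
    exact Nat.mod_eq_of_lt this.1
  have el : ((lineF w lineC i : Fin m) : ℕ) = get w lineC i := Nat.mod_eq_of_lt h1
  obtain ⟨-, -, es⟩ := sec_facts h0 (lineF w lineC i : Fin m)
  refine ⟨by rw [hn]; exact h2, Fin.ext (by simp only [lineF, Fin.val_ofNat, hn, h3]), ?_, el⟩
  rw [el] at es
  rcases h4 with h4 | h4
  · exact Or.inl (Fin.ext (by rw [es, h4]))
  · refine Or.inr (Fin.ext ?_)
    show (i : ℕ) = get 8 negCode _ % 240
    rw [es, h4, Nat.mod_eq_of_lt i.2]

/-- Data of an action on lines. -/
structure LineData (R : H →* Equiv.Perm (Fin 240)) (w m secC lineC : ℕ) (M : ℕ → Bool) : Prop where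
  ok : linesOK w m secC lineC M = true
  neg : ∀ g i, R g (negF i) = negF (R g i)
  inv : ∀ g (i : Fin 240), M i = true → M (R g i : Fin 240) = true

/-- The image of a line. -/
def lineAct (R : H →* Equiv.Perm (Fin 240)) (w secC lineC : ℕ) (g : H) (j : Fin m) : Fin m :=
  lineF w lineC (R g (secF secC j))

variable {R : H →* Equiv.Perm (Fin 240)}

theorem lineAct_line (D : LineData R w m secC lineC M) (g : H) {i : Fin 240} (hi : M i = true) :
    (lineF w lineC (R g i) : Fin m) = lineAct R w secC lineC g (lineF w lineC i) := by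
  unfold lineAct
  obtain ⟨-, -, h | h, -⟩ := line_facts D.ok hi
  · rw [← h]
  · conv_lhs => rw [h, D.neg]
    exact (line_facts D.ok (D.inv g _ (sec_facts D.ok _).1)).2.1

theorem lineAct_mul (D : LineData R w m secC lineC M) (g h : H) (j : Fin m) :
    lineAct R w secC lineC (g * h) j =
      lineAct R w secC lineC g (lineAct R w secC lineC h j) := by
  rw [lineAct, map_mul, Equiv.Perm.mul_apply,
    lineAct_line D g (D.inv h _ (sec_facts D.ok j).1)]
  rfl

theorem lineAct_one (D : LineData R w m secC lineC M) (j : Fin m) :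
    lineAct R w secC lineC 1 j = j := by
  rw [lineAct, map_one]; exact (sec_facts D.ok j).2.1

/-- The action on lines. -/
def lineHom (D : LineData R w m secC lineC M) : H →* Equiv.Perm (Fin m) :=
  MonoidHom.mk' (fun g =>
    { toFun := lineAct R w secC lineC g
      invFun := lineAct R w secC lineC g⁻¹
      left_inv := fun j => by rw [← lineAct_mul D, inv_mul_cancel, lineAct_one D]
      right_inv := fun j => by rw [← lineAct_mul D, mul_inv_cancel, lineAct_one D] })
    fun g h => Equiv.ext fun j => lineAct_mul D g h j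

theorem ker_lineHom (D : LineData R w m secC lineC M) {g : H} (hg : g ∈ (lineHom D).ker)
    {i : Fin 240} (hi : M i = true) : R g i = i ∨ R g i = negF i := by
  have e : (lineF w lineC (R g i) : Fin m) = lineF w lineC i :=
    (lineAct_line D g hi).trans (Equiv.ext_iff.1 (MonoidHom.mem_ker.1 hg) (lineF w lineC i : Fin m))
  obtain ⟨-, -, h1, -⟩ := line_facts D.ok hi
  obtain ⟨-, -, h2, -⟩ := line_facts D.ok (D.inv g i hi)
  rw [e] at h2
  have hnn : ∀ x, negF (negF x) = x := fun x => rootV_inj (by rw [rootV_negF, rootV_negF, neg_neg])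
  rcases h1 with h1 | h1 <;> rcases h2 with h2 | h2
  · exact Or.inl (h2.trans h1.symm)
  · exact Or.inr (h2.trans (congrArg negF h1.symm))
  · refine Or.inr ?_
    rw [h2]
    conv_rhs => rw [h1, hnn]
  · exact Or.inl (h2.trans h1.symm)

theorem mem_ker_lineHom (D : LineData R w m secC lineC M) {g : H}
    (hg : ∀ i : Fin 240, M i = true → R g i = i ∨ R g i = negF i) : g ∈ (lineHom D).ker := by
  refine MonoidHom.mem_ker.2 (Equiv.ext fun j => ?_)
  show (lineF w lineC (R g (secF secC j)) : Fin m) = j
  rcases hg _ (sec_facts D.ok j).1 with h | h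
  · rw [h]; exact (sec_facts D.ok j).2.1
  · rw [h, (line_facts D.ok (sec_facts D.ok j).1).2.1]; exact (sec_facts D.ok j).2.1

/-- Lifts of generators. -/
def liftsOK (w m secC lineC : ℕ) (lifts gens : List Elt) : Bool :=
  Nat.beq gens.length lifts.length &&
  allBelow (fun k =>
    let e := lifts.getD k (0, 0)
    let g := gens.getD k (0, 0)
    validElt 8 240 e && sift 8 240 e8Levels e.1 && validElt w m g &&
      allBelow (fun j => Nat.beq (get w lineC (get 8 e.1 (get 8 secC j))) (get w g.1 j)) m)
    gens.length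

theorem lift_mem {lifts gens : List Elt} (hL : liftsOK w m secC lineC lifts gens = true) {k : ℕ}
    (hk : k < gens.length) :
    ∃ g : Cc, rho g = toPerm 8 240 (lifts.getD k (0, 0)) := by
  simp only [liftsOK, Bool.and_eq_true] at hL
  have := allBelow_spec _ _ hL.2 k hk
  simp only [Bool.and_eq_true] at this
  have h : toPerm 8 240 (lifts.getD k (0, 0)) ∈ rho.range := by
    rw [group_facts.2.2.2]; exact cert_mem e8_cert this.1.1.1 this.1.1.2
  exact h

theorem gen_le_range (D : LineData R w m secC lineC M) {lifts gens : List Elt}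
    (hL : liftsOK w m secC lineC lifts gens = true)
    (hR : ∀ k < gens.length, ∃ g, R g = toPerm 8 240 (lifts.getD k (0, 0))) :
    genGroup w m gens ≤ (lineHom D).range := by
  refine (Subgroup.closure_le _).2 fun σ hσ => ?_
  obtain ⟨e, he, rfl⟩ := List.mem_map.1 hσ
  obtain ⟨k, hk, rfl⟩ := List.mem_iff_getElem.1 he
  obtain ⟨g, hg⟩ := hR k hk
  refine ⟨g, Equiv.ext fun j => ?_⟩
  simp only [liftsOK, Bool.and_eq_true] at hL
  have := allBelow_spec _ _ hL.2 k hk
  simp only [Bool.and_eq_true] at this
  obtain ⟨⟨⟨hv, -⟩, hvg⟩, hall⟩ := this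
  have hj := allBelow_spec _ _ hall j j.2
  simp only [Nat.beq_eq] at hj
  rw [List.getD_eq_getElem _ _ hk] at hj hvg
  show (lineF w lineC (R g (secF secC j)) : Fin m) = _
  refine Fin.ext ?_
  rw [hg, lineF, Fin.val_ofNat, ← ((rep_toPerm hv) (secF secC j)).1, (sec_facts D.ok j).2.2, hj,
    ((rep_toPerm hvg) j).1, Nat.mod_eq_of_lt (Fin.is_lt _)]

/-- The product of two lists of eight coordinates. -/
def dot8 (a b : List ℤ) : ℤ := (List.ofFn fun k : Fin 8 => a.getD k 0 * b.getD k 0).sum

/-- Orthogonality to the fixed root. -/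
def perpU (i : ℕ) : Bool := dot8 (rootList.getD i []) (rootList.getD uRoot []) == 0

theorem lines120_ok : linesOK 7 120 secCode lineCode (fun _ => true) = true := by decide +kernel

theorem lifts120_ok : liftsOK 7 120 secCode lineCode lifts120 SchurMult.o82Gens = true := by
  decide +kernel

theorem lines63_ok : linesOK 6 63 sec63Code line63Code perpU = true := by decide +kernel

theorem lifts63_ok : liftsOK 6 63 sec63Code line63Code lifts63 SchurMult.sp62Gens = true ∧
    uRoot < 240 ∧ (lifts63.all fun e => Nat.beq (get 8 e.1 uRoot) uRoot) = true := by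
  decide +kernel

end Cfsg.Agent.E8Cent
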