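import Cfsg.Agent.Lib.E8Cent.Extra
import Cfsg.Agent.Lib.E8Cent.Lines
import Cfsg.Agent.Lib.SchurMult.O82Hom
import Cfsg.Agent.Lib.Components.Local
import Cfsg.Agent.Lib.LocalEven.PIrred
import Cfsg.Agent.Lib.Qd.Basic
import Cfsg.Agent.S0296

/-! The centraliser of an octad involution in the group modulo the centre. -/

set_option autoImplicit false
set_option maxRecDepth 20000
set_option linter.unusedSimpArgs false

noncomputable section

namespace Cfsg.Agent.E8Cent

open Cfsg Cfsg.Agent.Golay Cfsg.Agent.Leech Cfsg.Agent.PermCert Finset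

attribute [local irreducible] e8Gens e8Derived e8Levels e8Mat0 e8Mat1 e8Tree rootList lifts120 lifts63
  SchurMult.o82Gens SchurMult.o82Derived SchurMult.o82Levels

theorem pCore_eq_of_simple {X : Type*} [Group X] [Finite X] {Q : Subgroup X} [hn : Q.Normal]
    (hQ : IsPGroup 2 Q) [IsSimpleGroup (X ⧸ Q)] (h : ¬ IsPGroup 2 (X ⧸ Q)) :
    Cfsg.pCore 2 X = Q := by
  refine le_antisymm ?_ (le_sSup ⟨hn, hQ⟩)
  have : Fact (Nat.Prime 2) := ⟨Nat.prime_two⟩
  have hP : IsPGroup 2 (Cfsg.pCore 2 X) := FittingCores.pCore_isPGroup (G := X) 2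
  have hN : ((Cfsg.pCore 2 X).map (QuotientGroup.mk' Q)).Normal :=
    (FittingCores.pCore_normal (G := X) 2).map _ (QuotientGroup.mk'_surjective Q)
  rcases hN.eq_bot_or_eq_top with e | e
  · rwa [Subgroup.map_eq_bot_iff, QuotientGroup.ker_mk'] at e
  · refine absurd ?_ h
    have := hP.map (QuotientGroup.mk' Q)
    rw [e] at this
    exact this.of_equiv Subgroup.topEquiv

theorem not_isPGroup_of_three {X : Type*} [Group X] [Finite X] (h : 3 ∣ Nat.card X) :
    ¬ IsPGroup 2 X := fun hp => by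
  have : Fact (Nat.Prime 2) := ⟨Nat.prime_two⟩
  obtain ⟨k, hk⟩ := IsPGroup.iff_card.1 hp
  rw [hk] at h
  exact absurd (Nat.prime_three.dvd_of_dvd_pow h) (by norm_num)

/-- The sign in the centraliser. -/
def negC : Cc :=
  ⟨negCo0, mem_Cc.2 (Subgroup.mem_center_iff.1 (Leech.mem_center_iff.2 (Or.inr rfl)) t0).symm⟩

theorem negC_rho (i : Fin 240) : rho negC i = negF i := rootV_inj (by
  rw [rho_spec, rootV_negF]; exact negCo0_smul _)

theorem negC_not_ker : negC ∉ rho.ker := fun h => negF_ne 0 (by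
  rw [← negC_rho, MonoidHom.mem_ker.1 h]; rfl)

theorem negC_sq : negC * negC = 1 := Subtype.ext (co0_ext fun i => by
  show (negCo0 * negCo0) • axis i = (1 : Co0) • axis i
  rw [mul_smul, negCo0_smul, negCo0_smul, neg_neg, one_smul])

theorem negC_comm (g : Cc) : g * negC = negC * g :=
  Subtype.ext (Subgroup.mem_center_iff.1 (Leech.mem_center_iff.2 (Or.inr rfl)) (g : Co0))

theorem lineData120 : LineData rho 7 120 secCode lineCode (fun _ => true) :=
  ⟨lines120_ok, rho_negF, fun _ _ _ => rfl⟩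

/-- The action on the 120 lines. -/
def act120 : Cc →* Equiv.Perm (Fin 120) := lineHom lineData120

theorem act120_facts : act120.range = genGroup 7 120 SchurMult.o82Gens ∧
    ∀ g : Cc, g ∈ act120.ker ↔ g ∈ rho.ker ∨ g * negC ∈ rho.ker := by
  have h1 : genGroup 7 120 SchurMult.o82Gens ≤ act120.range :=
    gen_le_range lineData120 lifts120_ok fun k hk => lift_mem lifts120_ok hk
  have hc : Nat.card (genGroup 7 120 SchurMult.o82Gens) = 174182400 :=
    (cert_card SchurMult.o82_cert).trans SchurMult.o82_order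
  have hk1 : ∀ g : Cc, g ∈ rho.ker → g ∈ act120.ker := fun g hg =>
    mem_ker_lineHom lineData120 fun i _ => Or.inl (by rw [MonoidHom.mem_ker.1 hg]; rfl)
  have hk2 : negC ∈ act120.ker :=
    mem_ker_lineHom lineData120 fun i _ => Or.inr (negC_rho i)
  let K : Subgroup Cc :=
    { carrier := {g | g ∈ rho.ker ∨ g * negC ∈ rho.ker}
      one_mem' := Or.inl (one_mem _)
      mul_mem' := fun {a b} ha hb => by
        rcases ha with ha | ha <;> rcases hb with hb | hb
        · exact Or.inl (mul_mem ha hb)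
        · exact Or.inr (by rw [mul_assoc]; exact mul_mem ha hb)
        · refine Or.inr ?_
          rw [mul_assoc, negC_comm, ← mul_assoc]; exact mul_mem ha hb
        · refine Or.inl ?_
          have e : (a * negC) * (b * negC) = a * b := by
            rw [mul_assoc, ← mul_assoc negC, ← negC_comm b, mul_assoc b, negC_sq, mul_one]
          rw [← e]; exact mul_mem ha hb
      inv_mem' := fun {a} ha => by
        rcases ha with ha | ha
        · exact Or.inl (inv_mem ha)
        · refine Or.inr ?_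
          have e : (a * negC)⁻¹ = a⁻¹ * negC := by
            rw [inv_eq_iff_mul_eq_one]
            calc a * negC * (a⁻¹ * negC) = a * (negC * a⁻¹) * negC := by group
              _ = 1 := by rw [← negC_comm a⁻¹, ← mul_assoc, mul_inv_cancel, one_mul, negC_sq]
          rw [← e]; exact inv_mem ha }
  have hKk : K ≤ act120.ker := fun g hg => by
    rcases hg with hg | hg
    · exact hk1 g hg
    · have := mul_mem (hk1 _ hg) hk2
      rwa [mul_assoc, negC_sq, mul_one] at this
  have hlt : rho.ker < K := by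
    refine lt_of_le_of_ne (fun g hg => Or.inl hg) fun e => negC_not_ker ?_
    rw [e]; exact Or.inr (by rw [negC_sq]; exact one_mem _)
  have hK : 1024 ≤ Nat.card K := by
    obtain ⟨d, hd⟩ := Subgroup.card_dvd_of_le hlt.le
    rw [card_ker] at hd
    have hd1 : d ≠ 1 := fun h => hlt.ne (Subgroup.eq_of_le_of_card_ge hlt.le (by
      rw [card_ker, hd, h]))
    have hpos : 0 < Nat.card K := Nat.card_pos
    rw [hd] at hpos ⊢
    have : 2 ≤ d := by
      rcases d with _ | _ | d
      · simp at hpos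
      · exact absurd rfl hd1
      · omega
    calc 1024 = 512 * 2 := rfl
      _ ≤ 512 * d := Nat.mul_le_mul_left _ this
  have h := Subgroup.card_mul_index act120.ker
  rw [Subgroup.index_ker, group_facts.1] at h
  have hs := squeeze (hK.trans (Subgroup.card_le_of_le hKk))
    (hc.symm.le.trans (Subgroup.card_le_of_le h1)) (h.le.trans (by norm_num)) (by norm_num) (by norm_num)
  refine ⟨(Subgroup.eq_of_le_of_card_ge h1 (by rw [hc, hs.2])).symm, fun g => ?_⟩
  rw [← Subgroup.eq_of_le_of_card_ge hKk (by rw [hs.1]; exact hK)]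
  rfl

/-! ### The centraliser in the quotient -/

theorem anticomm_false {g : Co0} (h : g * t0 = t0 * g * negCo0) : False := by
  classical
  have key : ∀ v : leechLattice, g • t0 • v = -(t0 • g • v) := fun v => by
    rw [← mul_smul, h, mul_smul, mul_smul, negCo0_smul, co0_neg, co0_neg]
  have hout : ∀ p q, ¬ InO p → ¬ InO q → ((g • axis p : leechLattice) : GolayPt → ℤ) q = 0 := by
    intro p q hp hq
    refine supp_iff.2 ?_ q hq
    have e : t0 • axis p = -axis p := by
      refine Subtype.ext (funext fun r => ?_)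
      rw [t0_smul, AddSubgroup.coe_neg, Pi.neg_apply, coe_axis, Pi.single_apply]
      split_ifs with hr
      · rw [hr, sg, if_neg hp]; ring
      · ring
    have := key (axis p)
    rw [e, co0_neg, neg_inj] at this
    exact this.symm
  have hin : ∀ p q, InO p → InO q → ((g • axis p : leechLattice) : GolayPt → ℤ) q = 0 := by
    intro p q hp hq
    have hs : t0 • axis p = axis p := supp_iff.1 fun r hr => by
      rw [coe_axis, Pi.single_apply, if_neg]
      rintro rfl
      exact hr hp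
    have := congrFun (congrArg Subtype.val (key (axis p))) q
    rw [hs, AddSubgroup.coe_neg, Pi.neg_apply, t0_smul, sg, if_pos hq] at this
    omega
  have hadj : ∀ p q, ((g • axis p : leechLattice) : GolayPt → ℤ) q =
      ((g⁻¹ • axis q : leechLattice) : GolayPt → ℤ) p := fun p q => by
    rw [← ip_axis, ← ip_axis (g⁻¹ • axis q) p, ip_comm (g⁻¹ • axis q), ← co0_ip g⁻¹ (g • axis p) (axis q),
      inv_smul_smul]
  have hrow : ∀ p, ∑ q, ((g • axis p : leechLattice) : GolayPt → ℤ) q ^ 2 = 64 := fun p => by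
    have := eight_ip_self (g • axis p)
    rw [co0_ip, ip_axis_self] at this
    exact this.symm
  have hcol : ∀ q, ∑ p, ((g • axis p : leechLattice) : GolayPt → ℤ) q ^ 2 = 64 := fun q => by
    simp only [hadj]
    have := eight_ip_self (g⁻¹ • axis q)
    rw [co0_ip, ip_axis_self] at this
    exact this.symm
  let O : Finset GolayPt := univ.filter fun p => InO p
  have hO : O.card = 8 ∧ Oᶜ.card = 16 := by decide +kernel
  have e1 : ∀ p ∈ Oᶜ, ∑ q ∈ O, ((g • axis p : leechLattice) : GolayPt → ℤ) q ^ 2 = 64 := fun p hp => by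
    rw [← hrow p]
    refine sum_subset (subset_univ _) fun q _ hq => ?_
    simp only [O, mem_compl, mem_filter, mem_univ, true_and] at hp hq
    rw [hout p q hp hq]; rfl
  have e2 : ∀ q ∈ O, ∑ p ∈ Oᶜ, ((g • axis p : leechLattice) : GolayPt → ℤ) q ^ 2 = 64 := fun q hq => by
    rw [← hcol q]
    refine sum_subset (subset_univ _) fun p _ hp => ?_
    simp only [O, mem_compl, mem_filter, mem_univ, true_and, not_not] at hp hq
    rw [hin p q hp hq]; rfl
  have t : ∑ p ∈ Oᶜ, ∑ q ∈ O, ((g • axis p : leechLattice) : GolayPt → ℤ) q ^ 2 =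
      ∑ q ∈ O, ∑ p ∈ Oᶜ, ((g • axis p : leechLattice) : GolayPt → ℤ) q ^ 2 := sum_comm
  rw [sum_congr rfl e1, sum_congr rfl e2, sum_const, sum_const, hO.1, hO.2] at t
  norm_num at t

/-- The projection. -/
def piH : Co0 →* Spor.Co1 := QuotientGroup.mk' (Subgroup.center Co0)

theorem piH_eq {a b : Co0} : piH a = piH b ↔ b = a ∨ b = a * negCo0 := by
  rw [piH, QuotientGroup.mk'_apply, QuotientGroup.mk'_apply, QuotientGroup.eq, Leech.mem_center_iff,
    inv_mul_eq_one, inv_mul_eq_iff_eq_mul, eq_comm]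

/-- The involution. -/
def z1 : Spor.Co1 := piH t0

/-- Its centraliser. -/
abbrev C1 : Subgroup Spor.Co1 := Subgroup.centralizer ({z1} : Set Spor.Co1)

theorem preimage_C1 {g : Co0} : piH g ∈ C1 ↔ g ∈ Cc := by
  rw [Subgroup.mem_centralizer_singleton_iff, z1, ← map_mul, ← map_mul, piH_eq, mem_Cc]
  constructor
  · rintro (h | h)
    · exact h.symm
    · refine (anticomm_false (g := g) ?_).elim
      rw [h, mul_assoc (g * t0), show negCo0 * negCo0 = 1 from congrArg Subtype.val negC_sq, mul_one]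
  · exact fun h => Or.inl h.symm

/-- The projection onto the centraliser. -/
def phiC : Cc →* C1 := (piH.comp Cc.subtype).codRestrict C1 fun g => preimage_C1.2 g.2

theorem phiC_surj : Function.Surjective phiC := fun x => by
  obtain ⟨g, hg⟩ := QuotientGroup.mk'_surjective (Subgroup.center Co0) (x : Spor.Co1)
  exact ⟨⟨g, preimage_C1.1 (by rw [piH, hg]; exact x.2)⟩, Subtype.ext hg⟩

theorem phiC_eq {a b : Cc} : phiC a = phiC b ↔ b = a ∨ b = a * negC := by
  rw [Subtype.ext_iff (a1 := phiC a), Subtype.ext_iff (a1 := b), Subtype.ext_iff (a1 := b)]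
  exact piH_eq

/-- The extraspecial subgroup. -/
def Q1 : Subgroup C1 := rho.ker.map phiC

theorem Q1_normal : Q1.Normal := (MonoidHom.normal_ker rho).map phiC phiC_surj

theorem phiC_inj_ker {a b : Cc} (ha : a ∈ rho.ker) (hb : b ∈ rho.ker) (h : phiC a = phiC b) :
    a = b := by
  rcases phiC_eq.1 h with e | e
  · exact e.symm
  · refine absurd ?_ negC_not_ker
    rw [show negC = a⁻¹ * b by rw [e, inv_mul_cancel_left]]
    exact mul_mem (inv_mem ha) hb

/-- The kernel is the subgroup below. -/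
def kerEquiv : rho.ker ≃* Q1 :=
  MulEquiv.ofBijective ((phiC.comp rho.ker.subtype).codRestrict Q1 fun a => ⟨a, a.2, rfl⟩)
    ⟨fun a b e => Subtype.ext (phiC_inj_ker a.2 b.2 (congrArg Subtype.val e)),
      fun ⟨_, a, ha, e⟩ => ⟨⟨a, ha⟩, Subtype.ext e⟩⟩

theorem phiC_mem_Q1 {g : Cc} : phiC g ∈ Q1 ↔ g ∈ act120.ker := by
  rw [act120_facts.2]
  constructor
  · rintro ⟨k, hk, e⟩
    rcases phiC_eq.1 e with e | e
    · exact Or.inl (e ▸ hk)
    · refine Or.inr ?_
      rw [e, mul_assoc, negC_sq, mul_one]; exact hk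
  · rintro (h | h)
    · exact ⟨g, h, rfl⟩
    · refine ⟨g * negC, h, phiC_eq.2 (Or.inr ?_)⟩
      rw [mul_assoc, negC_sq, mul_one]

theorem quot_equiv : ∃ (_ : Q1.Normal), Nonempty (C1 ⧸ Q1 ≃* genGroup 7 120 SchurMult.o82Gens) := by
  have := Q1_normal
  refine ⟨this, ⟨?_⟩⟩
  let θ : Cc →* C1 ⧸ Q1 := (QuotientGroup.mk' Q1).comp phiC
  have hθ : Function.Surjective θ := (QuotientGroup.mk'_surjective Q1).comp phiC_surj
  have hk : θ.ker = act120.ker := by
    ext g
    rw [← phiC_mem_Q1, MonoidHom.mem_ker]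
    exact QuotientGroup.eq_one_iff _
  exact ((QuotientGroup.quotientKerEquivOfSurjective θ hθ).symm.trans
    (QuotientGroup.quotientMulEquivOfEq hk)).trans
      ((QuotientGroup.quotientKerEquivRange act120).trans (MulEquiv.subgroupCongr act120_facts.1))

theorem simple_o82 : IsSimpleGroup (genGroup 7 120 SchurMult.o82Gens) := by
  obtain ⟨φ, hφ, hr, hz⟩ := SchurMult.exists_o82_hom (F := ZMod 2) (ZMod.card 2)
  have := S0296.result (F := ZMod 2) 4 le_rfl
  have h : IsSimpleGroup (Omega (ZMod 2) (quadFormPlus 4 (ZMod 2))) :=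
    ((QuotientGroup.quotientMulEquivOfEq hz).trans QuotientGroup.quotientBot).symm.isSimpleGroup
  exact ((MulEquiv.subgroupCongr hr.symm).trans (MonoidHom.ofInjective hφ).symm).isSimpleGroup

/-- The permutation moving a word. -/
def moveP : Equiv.Perm GolayPt := permOf moveElt

theorem move_ok : validElt 5 24 moveElt = true ∧ isAutB moveElt = true ∧
    (∀ p, InO (moveP p) ↔ InO p) ∧ inCode moveWord = true ∧
    (∀ p, InO p → ofMask moveWord p = 0) ∧ (∃ p, ofMask moveWord p ≠ ofMask moveWord (moveP p)) ∧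
    ∃ p, ofMask moveWord p ≠ ofMask xMask (moveP p) + ofMask moveWord (moveP p) := by decide +kernel

/-- The permutation moving the octad. -/
def swapP : Equiv.Perm GolayPt := permOf swapElt

theorem swap_ok : validElt 5 24 swapElt = true ∧ isAutB swapElt = true ∧
    inCode swapMask = true ∧ (∀ p, InO p → ofMask swapMask p = 0) ∧
    (∀ p, ofMask xMask p = ofMask swapMask (swapP p) + 1) ∧
    ∃ p, ofMask swapMask p ≠ ofMask xMask p := by decide +kernel

theorem centralizer_Q1 : Subgroup.centralizer (Q1 : Set C1) ≤ Q1 := by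
  have := Q1_normal
  obtain ⟨_, ⟨E⟩⟩ := quot_equiv
  have := simple_o82
  have : IsSimpleGroup (C1 ⧸ Q1) := E.isSimpleGroup
  have hN : ((Subgroup.centralizer (Q1 : Set C1)).map (QuotientGroup.mk' Q1)).Normal :=
    (Subgroup.normal_centralizer).map _ (QuotientGroup.mk'_surjective Q1)
  rcases hN.eq_bot_or_eq_top with e | e
  · rwa [Subgroup.map_eq_bot_iff, QuotientGroup.ker_mk'] at e
  exfalso
  obtain ⟨hv, ha, hO, hw, hwO, ⟨p₁, hp₁⟩, ⟨p₂, hp₂⟩⟩ := move_ok
  let σ : M24 := ⟨moveP, permOf_mem_M24 hv ha⟩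
  let wc : golayCode := ⟨ofMask moveWord, ofMask_mem_golayCode hw⟩
  let h : Cc := ⟨mono (σ, 0), mono_mem_Cc (a := (σ, 0)) hO⟩
  obtain ⟨k, hkv, hk⟩ := mem_ker_of_fixPair (a := (1, wc)) fun p hp => ⟨rfl, hwO p hp⟩
  obtain ⟨n, hn, q, hq, hx⟩ : ∃ n ∈ Subgroup.centralizer (Q1 : Set C1), ∃ q ∈ Q1,
      n * q = phiC h := by
    refine Subgroup.mem_sup_of_normal_right.1 ?_
    have := Subgroup.comap_map_eq (QuotientGroup.mk' Q1) (Subgroup.centralizer (Q1 : Set C1))
    rw [e, Subgroup.comap_top, QuotientGroup.ker_mk'] at this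
    rw [← this]; trivial
  obtain ⟨a, ha', rfl⟩ := hq
  have hcomm : ∀ x ∈ Q1, n * x = x * n := fun x hx => (Subgroup.mem_centralizer_iff.1 hn x hx).symm
  have hconj : h * k * h⁻¹ ∈ rho.ker := (MonoidHom.normal_ker rho).conj_mem k hk h
  have hcases : a * k * a⁻¹ = k ∨ a * k * a⁻¹ = t0c * k := by
    rcases ker_comm ⟨a, ha'⟩ ⟨k, hk⟩ with e | e
    · left
      rw [show a * k = k * a from congrArg Subtype.val e, mul_inv_cancel_right]
    · right
      rw [show a * k = t0c * (k * a) from congrArg Subtype.val e, mul_assoc, mul_inv_cancel_right]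
  have hres : h * k * h⁻¹ = a * k * a⁻¹ := by
    refine phiC_inj_ker hconj (mul_mem (mul_mem ha' hk) (inv_mem ha')) ?_
    rw [map_mul, map_mul, map_inv, ← hx, mul_inv_rev, ← map_inv phiC a]
    rw [show n * phiC a * phiC k * (phiC a⁻¹ * n⁻¹) = n * phiC (a * k * a⁻¹) * n⁻¹ by
      rw [map_mul, map_mul]; group]
    rw [hcomm _ ⟨_, mul_mem (mul_mem ha' hk) (inv_mem ha'), rfl⟩, mul_inv_cancel_right]
  have hpos : ∀ b : M24 × golayCode, ((h * k * h⁻¹ : Cc) : Co0) = mono b →
      (∀ p, (b.1 : Equiv.Perm GolayPt) p = p) →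
      ∀ p, (b.2 : GolayPt → ZMod 2) (moveP p) = ofMask moveWord p := by
    intro b eb hb p
    have e1 : (h : Co0) * (k : Co0) = mono b * (h : Co0) := by
      rw [← eb, ← Subgroup.coe_mul, ← Subgroup.coe_mul, inv_mul_cancel_right]
    rw [hkv, show (h : Co0) = mono (σ, 0) from rfl, mono_mul, mono_mul] at e1
    have e2 := congrFun (congrArg Subtype.val (congrArg Prod.snd (mono_injective e1))) (moveP p)
    simp only [pairMul, Pi.add_apply, Pi.zero_apply, ZeroMemClass.coe_zero, zero_add, add_zero,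
      σ, Equiv.symm_apply_apply] at e2
    exact e2.symm
  rcases hcases with e' | e'
  · exact hp₁ (hpos (1, wc) (by rw [hres, e', hkv]) (fun _ => rfl) p₁).symm
  · refine hp₂ ?_
    rw [← hpos (pairMul (1, xWord) (1, wc)) (by rw [hres, e', Subgroup.coe_mul, hkv, ← mono_mul]; rfl)
      (fun _ => rfl) p₂]
    simp [pairMul, xWord, wc, Equiv.Perm.one_def]

theorem z1_order : orderOf z1 = 2 := by
  refine orderOf_eq_prime ?_ fun h => ?_
  · rw [pow_two, z1, ← map_mul, t0_sq, map_one]
  · rw [z1, ← map_one piH, piH_eq] at h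
    rcases h with h | h
    · exact t0_ne_one h.symm
    · have := congrArg (fun g : Co0 => g • rootV 0) h
      simp only [one_smul, mul_smul, negCo0_smul, supp_iff.1 (supp_root 0), co0_neg] at this
      exact negF_ne 0 (rootV_inj (by rw [rootV_negF]; exact this.symm))

theorem exists_conj_mem : ∃ g : Spor.Co1, (∃ hq : g * z1 * g⁻¹ ∈ C1,
    (⟨g * z1 * g⁻¹, hq⟩ : C1) ∈ Q1) ∧ g * z1 * g⁻¹ ≠ z1 := by
  obtain ⟨hv, ha, hc, hcO, hrel, ⟨p₀, hp₀⟩⟩ := swap_ok
  let σ : M24 := ⟨swapP, permOf_mem_M24 hv ha⟩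
  let c : golayCode := ⟨ofMask swapMask, ofMask_mem_golayCode hc⟩
  obtain ⟨k, hkv, hk⟩ := mem_ker_of_fixPair (a := (1, c)) fun p hp => ⟨rfl, hcO p hp⟩
  have e : mono (σ, 0) * t0 = mono (1, c) * negCo0 * mono (σ, 0) := by
    rw [t0, Leech.diag, negCo0, mono_mul, mono_mul, mono_mul]
    refine congrArg mono (Prod.ext ?_ (Subtype.ext (funext fun q => ?_)))
    · simp [pairMul]
    · obtain ⟨p, rfl⟩ := swapP.surjective q
      simp [pairMul, σ, c, xWord, Equiv.Perm.one_def, hrel p]
  have e' : piH (mono (σ, 0)) * z1 * (piH (mono (σ, 0)))⁻¹ = (phiC k : Spor.Co1) := by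
    show _ = piH (k : Co0)
    rw [z1, ← map_mul, ← map_inv, ← map_mul, piH_eq]
    right
    rw [e, mul_inv_cancel_right, hkv, mul_assoc,
      show negCo0 * negCo0 = 1 from congrArg Subtype.val negC_sq, mul_one]
  refine ⟨piH (mono (σ, 0)), ⟨e' ▸ (phiC k).2, ?_⟩, fun h => ?_⟩
  · rw [show (⟨_, e' ▸ (phiC k).2⟩ : C1) = phiC k from Subtype.ext e']
    exact ⟨k, hk, rfl⟩
  · rw [e'] at h
    have := congrArg (fun g : Cc => (g : Co0)) (phiC_inj_ker hk t0c_mem (Subtype.ext h))
    simp only [hkv] at this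
    exact hp₀ (congrFun (congrArg Subtype.val (congrArg Prod.snd (mono_injective this))) p₀)

/-- **The large extraspecial hypothesis.** -/
theorem co1_main : ∃ z : Spor.Co1, orderOf z = 2 ∧
    ∃ (Q : Subgroup (Subgroup.centralizer ({z} : Set Spor.Co1))) (_ : Q.Normal),
      generalizedFittingSubgroup (Subgroup.centralizer ({z} : Set Spor.Co1)) = Q ∧
      IsExtraspecial 2 Q ∧ Nat.card Q = 2 ^ 9 ∧
      Nonempty ((Subgroup.centralizer ({z} : Set Spor.Co1)) ⧸ Q ≃*
        Omega (ZMod 2) (quadFormPlus 4 (ZMod 2))) ∧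
      ∃ g : Spor.Co1, (∃ hq : g * z * g⁻¹ ∈ Subgroup.centralizer ({z} : Set Spor.Co1),
        (⟨g * z * g⁻¹, hq⟩ : Subgroup.centralizer ({z} : Set Spor.Co1)) ∈ Q) ∧
          g * z * g⁻¹ ≠ z := by
  have : Fact (Nat.Prime 2) := ⟨Nat.prime_two⟩
  obtain ⟨hn, ⟨E⟩⟩ := quot_equiv
  obtain ⟨φ, hφ, hr, -⟩ := SchurMult.exists_o82_hom (F := ZMod 2) (ZMod.card 2)
  have hcard : Nat.card Q1 = 2 ^ 9 := by
    rw [← Nat.card_congr kerEquiv.toEquiv, card_ker]; norm_num
  have := simple_o82
  have : IsSimpleGroup (C1 ⧸ Q1) := E.isSimpleGroup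
  have hne : ¬ IsPGroup 2 (C1 ⧸ Q1) := not_isPGroup_of_three (by
    rw [Nat.card_congr E.toEquiv, cert_card SchurMult.o82_cert, SchurMult.o82_order]; norm_num)
  have hp : Cfsg.pCore 2 C1 = Q1 := pCore_eq_of_simple (IsPGroup.of_card hcard) hne
  refine ⟨z1, z1_order, Q1, hn, ?_, Qd.isExtraspecial_congr kerEquiv.symm ker_xs, hcard,
    ⟨E.trans ((MulEquiv.subgroupCongr hr.symm).trans (MonoidHom.ofInjective hφ).symm)⟩,
    exists_conj_mem⟩
  refine (Components.generalizedFitting_eq_pCore_iff.2 ?_).trans hp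
  rw [hp]
  exact centralizer_Q1

end Cfsg.Agent.E8Cent
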