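import Cfsg.Agent.Lib.E8Cent.Group
import Cfsg.Agent.Lib.LargeExtra.Basic

/-! The kernel of the action on the roots is extraspecial. -/

set_option autoImplicit false
set_option maxRecDepth 20000
set_option linter.unusedSimpArgs false

noncomputable section

namespace Cfsg.Agent.E8Cent

open Cfsg Cfsg.Agent.Golay Cfsg.Agent.Leech Cfsg.Agent.PermCert Finset

attribute [local irreducible] e8Gens e8Derived e8Levels e8Mat0 e8Mat1 e8Tree rootList

theorem octP_zero : ∀ p, octP 0 p = p := by decide +kernel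

theorem octP_sq : ∀ (k : Fin 16) (p : GolayPt), octP k (octP k p) = p := by decide +kernel

theorem octP_comm : ∀ (k l : Fin 16) (p : GolayPt), octP k (octP l p) = octP l (octP k p) := by
  decide +kernel

theorem wW_shift : ∀ (k : Fin 16) (j : Fin 32), (∀ p, wW j (octP k p) = wW j p) ∨
    ∀ p, wW j (octP k p) = wW j p + ofMask xMask p := by decide +kernel

theorem octP_faithful : ∀ k : Fin 16, (∀ j p, wW j (octP k p) = wW j p) → ∀ p, octP k p = p := by
  decide +kernel

theorem wW_fixed : ∀ j : Fin 32, (∀ l p, wW j (octP l p) = wW j p) →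
    (∀ p, wW j p = 0) ∨ ∀ p, wW j p = ofMask xMask p := by decide +kernel

attribute [local irreducible] octP wW

theorem octP_symm (k : Fin 16) (p : GolayPt) : (octP k).symm p = octP k p := by
  rw [Equiv.symm_apply_eq, octP_sq]

theorem pm_fst (q r : Fin 16 × Fin 32) (p : GolayPt) :
    ((pairMul (kPair q) (kPair r)).1 : Equiv.Perm GolayPt) p = octP q.1 (octP r.1 p) := by
  simp only [pairMul, kPair, MulMemClass.coe_mul, Equiv.Perm.mul_apply]

theorem pm_snd (q r : Fin 16 × Fin 32) (p : GolayPt) :
    ((pairMul (kPair q) (kPair r)).2 : GolayPt → ZMod 2) p = wW q.2 p + wW r.2 (octP q.1 p) := by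
  simp only [pairMul, kPair, Pi.add_apply, octP_symm]

theorem mono_alt {a b : M24 × golayCode}
    (h1 : ∀ p, (a.1 : Equiv.Perm GolayPt) p = (b.1 : Equiv.Perm GolayPt) p)
    (h2 : (∀ p, (a.2 : GolayPt → ZMod 2) p = (b.2 : GolayPt → ZMod 2) p) ∨
      ∀ p, (a.2 : GolayPt → ZMod 2) p = ofMask xMask p + (b.2 : GolayPt → ZMod 2) p) :
    mono a = mono b ∨ mono a = t0 * mono b := by
  have e1 : a.1 = b.1 := Subtype.ext (Equiv.ext h1)
  rcases h2 with h | h
  · exact Or.inl (congrArg mono (Prod.ext e1 (Subtype.ext (funext h))))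
  · refine Or.inr ?_
    rw [t0, Leech.diag, mono_mul]
    refine congrArg mono (Prod.ext ?_ (Subtype.ext (funext fun p => (h p).trans ?_)))
    · show a.1 = 1 * b.1
      rw [one_mul]; exact e1
    · simp [pairMul, xWord, Equiv.Perm.one_def]

/-- The sign change in the centraliser. -/
def t0c : Cc := ⟨t0, mem_Cc.2 rfl⟩

theorem t0c_mem : t0c ∈ rho.ker := mem_ker_iff.2 fun i => supp_iff.1 (supp_root i)

/-- The sign change in the kernel. -/
def t0k : rho.ker := ⟨t0c, t0c_mem⟩

theorem ker_ext {x y : rho.ker} (h : ((x : Cc) : Co0) = ((y : Cc) : Co0)) : x = y :=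
  Subtype.ext (Subtype.ext h)

theorem diag_eq_one {c : golayCode} (h : Leech.diag c = 1) (p : GolayPt) :
    (c : GolayPt → ZMod 2) p = 0 := by
  rw [← diag_zero] at h
  have := congrArg Prod.snd (mono_injective h)
  exact congrFun (congrArg Subtype.val this) p

theorem t0_ne_one : t0 ≠ 1 := fun h => by
  obtain ⟨p, hp⟩ := (by decide +kernel : ∃ p, ofMask xMask p ≠ 0)
  exact hp (diag_eq_one h p)

theorem t0_sq : t0 * t0 = 1 := by
  rw [t0, ← diag_add, ← diag_zero]
  congr 1
  exact Subtype.ext (funext fun p => CharTwo.add_self_eq_zero _)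

theorem t0k_order : orderOf t0k = 2 :=
  orderOf_eq_prime (ker_ext (by rw [pow_two]; exact t0_sq))
    fun h => t0_ne_one (congrArg (fun x : rho.ker => ((x : Cc) : Co0)) h)

theorem ker_comm (x y : rho.ker) : x * y = y * x ∨ x * y = t0k * (y * x) := by
  obtain ⟨q, rfl⟩ := kElt_surj x
  obtain ⟨r, rfl⟩ := kElt_surj y
  have ha : (((kElt q * kElt r : rho.ker) : Cc) : Co0) = mono (pairMul (kPair q) (kPair r)) := by
    show ((kElt q : Cc) : Co0) * ((kElt r : Cc) : Co0) = _
    rw [kElt_val, kElt_val, mono_mul]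
  have hb : (((kElt r * kElt q : rho.ker) : Cc) : Co0) = mono (pairMul (kPair r) (kPair q)) := by
    show ((kElt r : Cc) : Co0) * ((kElt q : Cc) : Co0) = _
    rw [kElt_val, kElt_val, mono_mul]
  have hp : (∀ p, ((pairMul (kPair q) (kPair r)).2 : GolayPt → ZMod 2) p =
      ((pairMul (kPair r) (kPair q)).2 : GolayPt → ZMod 2) p) ∨
      ∀ p, ((pairMul (kPair q) (kPair r)).2 : GolayPt → ZMod 2) p = ofMask xMask p +
        ((pairMul (kPair r) (kPair q)).2 : GolayPt → ZMod 2) p := by
    simp only [pm_snd]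
    rcases wW_shift q.1 r.2 with h | h <;> rcases wW_shift r.1 q.2 with h' | h'
    · left; intro p; rw [h, h', add_comm]
    · right; intro p; rw [h, h']
      exact (by decide : ∀ a b c : ZMod 2, a + b = c + (b + (a + c))) _ _ _
    · right; intro p; rw [h, h']
      exact (by decide : ∀ a b c : ZMod 2, a + (b + c) = c + (b + a)) _ _ _
    · left; intro p; rw [h, h']
      exact (by decide : ∀ a b c : ZMod 2, a + (b + c) = b + (a + c)) _ _ _
  rcases mono_alt (fun p => by rw [pm_fst, pm_fst, octP_comm]) hp with h | h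
  · exact Or.inl (ker_ext (ha.trans (h.trans hb.symm)))
  · refine Or.inr (ker_ext (ha.trans (h.trans ?_)))
    rw [← hb]
    rfl

theorem ker_sq (x : rho.ker) : x * x = 1 ∨ x * x = t0k := by
  obtain ⟨q, rfl⟩ := kElt_surj x
  have ha : (((kElt q * kElt q : rho.ker) : Cc) : Co0) = mono (pairMul (kPair q) (kPair q)) := by
    show ((kElt q : Cc) : Co0) * ((kElt q : Cc) : Co0) = _
    rw [kElt_val, mono_mul]
  have hp : (∀ p, ((pairMul (kPair q) (kPair q)).2 : GolayPt → ZMod 2) p = 0) ∨
      ∀ p, ((pairMul (kPair q) (kPair q)).2 : GolayPt → ZMod 2) p = ofMask xMask p + 0 := by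
    simp only [pm_snd]
    rcases wW_shift q.1 q.2 with h | h
    · left; intro p; rw [h, CharTwo.add_self_eq_zero]
    · right; intro p; rw [h]
      exact (by decide : ∀ a c : ZMod 2, a + (a + c) = c + 0) _ _
  rcases mono_alt (b := (1, 0)) (fun p => by rw [pm_fst, octP_sq]; rfl) hp with h | h
  · exact Or.inl (ker_ext (ha.trans (h.trans diag_zero)))
  · refine Or.inr (ker_ext (ha.trans (h.trans ?_)))
    rw [show mono ((1 : M24), (0 : golayCode)) = 1 from diag_zero, mul_one]
    rfl

theorem mem_zt {x : rho.ker} : x ∈ Subgroup.zpowers t0k ↔ x = 1 ∨ x = t0k := by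
  classical
  rw [mem_zpowers_iff_mem_range_orderOf, t0k_order, show Finset.range 2 = {0, 1} from rfl]
  simp [eq_comm]

theorem ker_central {x : rho.ker} (h : ∀ y, x * y = y * x) : x = 1 ∨ x = t0k := by
  obtain ⟨q, rfl⟩ := kElt_surj x
  have key : ∀ (r : Fin 16 × Fin 32) (p : GolayPt), wW q.2 p + wW r.2 (octP q.1 p) = wW r.2 p + wW q.2 (octP r.1 p) := fun r p => by
    have e := congrArg (fun z : rho.ker => ((z : Cc) : Co0)) (h (kElt r))
    change ((kElt q : Cc) : Co0) * ((kElt r : Cc) : Co0) =
      ((kElt r : Cc) : Co0) * ((kElt q : Cc) : Co0) at e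
    rw [kElt_val, kElt_val, mono_mul, mono_mul] at e
    rw [← pm_snd q r, ← pm_snd r q, mono_injective e]
  have hk : ∀ p, octP q.1 p = p := octP_faithful q.1 fun j p => by
    have := key (0, j) p
    rw [octP_zero, add_comm (wW j p)] at this
    exact add_left_cancel this
  have hj := wW_fixed q.2 fun l p => by
    have := key (l, q.2) p
    rw [hk] at this
    exact (add_left_cancel this).symm
  have hp : (∀ p, ((kPair q).2 : GolayPt → ZMod 2) p = 0) ∨
      ∀ p, ((kPair q).2 : GolayPt → ZMod 2) p = ofMask xMask p + 0 :=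
    hj.imp id fun h p => by rw [add_zero]; exact h p
  rcases mono_alt (b := (1, 0)) (fun p => hk p) hp with e | e
  · exact Or.inl (ker_ext ((kElt_val q).trans (e.trans diag_zero)))
  · refine Or.inr (ker_ext ((kElt_val q).trans (e.trans ?_)))
    rw [show mono ((1 : M24), (0 : golayCode)) = 1 from diag_zero, mul_one]
    rfl

theorem t0k_comm (y : rho.ker) : t0k * y = y * t0k :=
  ker_ext (mem_Cc.1 (y : Cc).2).symm

theorem card_ker : Nat.card rho.ker = 512 := group_facts.2.1

/-- **The kernel is extraspecial.** -/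
theorem ker_xs : IsExtraspecial 2 rho.ker := by
  refine LargeExtra.isExtraspecial_of (IsPGroup.of_card (n := 9) (by rw [card_ker]; norm_num))
    t0k_order (fun x => ⟨fun h => mem_zt.2 (ker_central h), fun h y => ?_⟩) (fun x y => mem_zt.2 ?_)
    (fun x => mem_zt.2 ?_) ?_
  · rcases mem_zt.1 h with rfl | rfl
    · rw [one_mul, mul_one]
    · exact t0k_comm y
  · rw [commutatorElement_def]
    rcases ker_comm x y with h | h
    · left; rw [h]; group
    · right; rw [h]; group
  · rw [pow_two]; exact ker_sq x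
  · by_contra hall
    push Not at hall
    have : Nat.card rho.ker ≤ 2 := by
      rw [← t0k_order, ← Nat.card_zpowers]
      exact Nat.card_le_card_of_injective
        (fun x => (⟨x, mem_zt.2 (ker_central (hall x))⟩ : Subgroup.zpowers t0k))
        fun a b e => congrArg Subtype.val e
    rw [card_ker] at this
    omega

end Cfsg.Agent.E8Cent
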