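import Cfsg.Agent.Lib.E8Cent.Co1
import Cfsg.Agent.Lib.SchurMult.Sp62Hom
import Cfsg.Agent.Lib.MinDegree.SympEven
import Cfsg.Agent.Lib.Leech.SporGroups

/-! The centraliser of an octad involution in the stabiliser of a vector of norm four. -/

set_option autoImplicit false
set_option maxRecDepth 20000
set_option linter.unusedSimpArgs false

noncomputable section

namespace Cfsg.Agent.E8Cent

open Cfsg Cfsg.Agent.Golay Cfsg.Agent.Leech Cfsg.Agent.PermCert Finset

attribute [local irreducible] e8Gens e8Derived e8Levels e8Mat0 e8Mat1 e8Tree lifts63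
  SchurMult.sp62Gens SchurMult.sp62Derived SchurMult.sp62Levels

/-- The fixed root as a point. -/
def uF : Fin 240 := Fin.ofNat 240 uRoot

theorem uF_val : (uF : ℕ) = uRoot := Nat.mod_eq_of_lt lifts63_ok.2.1

theorem uF_emb : ∀ p, emb (rootY uF) p = Spor.vecU p := by decide +kernel

theorem rootV_uF : rootV uF = Spor.leechU := Subtype.ext (funext uF_emb)

theorem perp_iff (i : Fin 240) : perpU i = true ↔ ip (rootV i) (rootV uF) = 0 := by
  have e : dotInt (rootV i : GolayPt → ℤ) (rootV uF : GolayPt → ℤ) =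
      4 * dot8 (rootY i) (rootY uF) := by
    show ∑ p, emb (rootY i) p * emb (rootY uF) p = _
    rw [sum_octad _ (fun p hp => by rw [emb_out (rootY_ok i).1 hp, zero_mul]), dot8, List.sum_ofFn,
      Finset.mul_sum]
    refine sum_congr rfl fun k _ => ?_
    rw [emb_oPt, emb_oPt]; ring
  have h8 := eight_ip (rootV i) (rootV uF)
  have hd : perpU i = true ↔ dot8 (rootY i) (rootY uF) = 0 := by
    rw [perpU, beq_iff_eq, List.getD_eq_getElem _ _ (by rw [rootList_ok.1]; exact i.2), ← uF_val,
      List.getD_eq_getElem _ _ (by rw [rootList_ok.1]; exact uF.2)]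
    rfl
  rw [hd]
  omega

/-- The stabiliser of the fixed root. -/
def St : Subgroup Cc := (MulAction.stabilizer (Equiv.Perm (Fin 240)) uF).comap rho

theorem mem_St {g : Cc} : g ∈ St ↔ rho g uF = uF := Iff.rfl

theorem st_fix {g : Cc} (hg : g ∈ St) : (g : Co0) • Spor.leechU = Spor.leechU := by
  rw [← rootV_uF, ← rho_spec, mem_St.1 hg]

theorem ker_le_St : rho.ker ≤ St := fun g hg => mem_St.2 (by rw [MonoidHom.mem_ker.1 hg]; rfl)

theorem lab_zero : ∀ x : Fin 240, G24J2.labOf 0 x = 0 := by decide +kernel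

theorem index_St : St.index = 240 := by
  rw [St, G24J2.index_stab]
  have : {x | ∃ k, rho k uF = x} = Set.univ := Set.eq_univ_of_forall fun x => by
    obtain ⟨σ, hσ, e⟩ := (G24J2.orbit_iff e8_orb uF x (by rw [lab_zero]; exact Nat.one_pos)).2
      (by rw [lab_zero, lab_zero])
    rw [← group_facts.2.2.2] at hσ
    obtain ⟨k, rfl⟩ := hσ
    exact ⟨k, e⟩
  rw [this, Set.ncard_univ, Nat.card_fin]

theorem lineData63 : LineData (rho.comp St.subtype) 6 63 sec63Code line63Code perpU :=
  ⟨lines63_ok, fun g => rho_negF (g : Cc), fun g i hi => by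
    rw [perp_iff] at hi ⊢
    show ip (rootV (rho (g : Cc) i)) (rootV uF) = 0
    rw [← mem_St.1 g.2, rho_spec, rho_spec, co0_ip, hi]⟩

/-- The action on the orthogonal lines. -/
def act63 : St →* Equiv.Perm (Fin 63) := lineHom lineData63

theorem act63_facts : act63.range = genGroup 6 63 SchurMult.sp62Gens ∧
    act63.ker = rho.ker.subgroupOf St := by
  have h1 : genGroup 6 63 SchurMult.sp62Gens ≤ act63.range := by
    refine gen_le_range lineData63 lifts63_ok.1 fun k hk => ?_
    obtain ⟨g, hg⟩ := lift_mem lifts63_ok.1 hk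
    have hk' : k < lifts63.length := by
      have h := lifts63_ok.1
      simp only [liftsOK, Bool.and_eq_true, Nat.beq_eq] at h
      omega
    have hv : validElt 8 240 (lifts63.getD k (0, 0)) = true := by
      have h := lifts63_ok.1
      simp only [liftsOK, Bool.and_eq_true] at h
      have := allBelow_spec _ _ h.2 k hk
      simp only [Bool.and_eq_true] at this
      exact this.1.1.1
    have hfix : rho g uF = uF := Fin.ext (by
      rw [hg, ← ((rep_toPerm hv) uF).1, uF_val]
      rw [List.getD_eq_getElem _ _ hk']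
      exact Nat.eq_of_beq_eq_true (List.all_eq_true.1 lifts63_ok.2.2 _ (List.getElem_mem hk')))
    exact ⟨⟨g, hfix⟩, hg⟩
  have hc : Nat.card (genGroup 6 63 SchurMult.sp62Gens) = 1451520 :=
    (cert_card SchurMult.sp62_cert).trans SchurMult.sp62_order
  have hle : rho.ker.subgroupOf St ≤ act63.ker := fun g hg =>
    mem_ker_lineHom lineData63 fun i _ => Or.inl (by
      show rho (g : Cc) i = i
      rw [MonoidHom.mem_ker.1 (show (g : Cc) ∈ rho.ker from hg)]; rfl)
  have hk : Nat.card (rho.ker.subgroupOf St) = 512 := by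
    rw [Nat.card_congr (Subgroup.subgroupOfEquivOfLe ker_le_St).toEquiv, card_ker]
  have hS : Nat.card St * 240 = 512 * 348364800 := by
    rw [← index_St, Subgroup.card_mul_index, group_facts.1]
  have h := Subgroup.card_mul_index act63.ker
  rw [Subgroup.index_ker] at h
  have hprod : Nat.card St ≤ 512 * 1451520 := by omega
  have hs := squeeze (hk.symm.le.trans (Subgroup.card_le_of_le hle))
    (hc.symm.le.trans (Subgroup.card_le_of_le h1)) (h.le.trans hprod) (by norm_num) (by norm_num)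
  exact ⟨(Subgroup.eq_of_le_of_card_ge h1 (by rw [hc, hs.2])).symm,
    (Subgroup.eq_of_le_of_card_ge hle (by rw [hk, hs.1])).symm⟩

theorem pCore_congr' {G H : Type*} [Group G] [Group H] (e : G ≃* H) :
    (Cfsg.pCore 2 G).map e.toMonoidHom = Cfsg.pCore 2 H := by
  refine le_antisymm ?_ (sSup_le fun N hN => ?_)
  · rw [Subgroup.map_le_iff_le_comap]
    refine sSup_le fun N hN => ?_
    rw [← Subgroup.map_le_iff_le_comap]
    exact le_sSup ⟨hN.1.map _ e.surjective, hN.2.map _⟩
  · intro x hx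
    refine ⟨e.symm x, ?_, e.apply_symm_apply x⟩
    have h1 : N.map e.symm.toMonoidHom ≤ Cfsg.pCore 2 G :=
      le_sSup ⟨hN.1.map _ e.symm.surjective, hN.2.map _⟩
    exact h1 ⟨x, hx, rfl⟩

theorem st_core : Cfsg.pCore 2 St = act63.ker ∧
    Nonempty (St ⧸ act63.ker ≃* Matrix.symplecticGroup (Fin 3) (ZMod 2)) := by
  obtain ⟨φ, hφ, hr⟩ := SchurMult.exists_sp62_hom (F := ZMod 2) (ZMod.card 2)
  have E : St ⧸ act63.ker ≃* Matrix.symplecticGroup (Fin 3) (ZMod 2) :=
    (QuotientGroup.quotientKerEquivRange act63).trans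
      ((MulEquiv.subgroupCongr (act63_facts.1.trans hr.symm)).trans (MonoidHom.ofInjective hφ).symm)
  have := SympEvenDeg.isSimpleGroup (F := ZMod 2) (n := 3) (by norm_num) (fun h => absurd h (by norm_num))
  have : IsSimpleGroup (St ⧸ act63.ker) := E.isSimpleGroup
  refine ⟨pCore_eq_of_simple ?_ (not_isPGroup_of_three ?_), ⟨E⟩⟩
  · rw [act63_facts.2]
    exact IsPGroup.of_card (n := 9) (by
      rw [Nat.card_congr (Subgroup.subgroupOfEquivOfLe ker_le_St).toEquiv, card_ker]; norm_num)
  · rw [Nat.card_congr (QuotientGroup.quotientKerEquivRange act63).toEquiv, act63_facts.1,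
      cert_card SchurMult.sp62_cert, SchurMult.sp62_order]
    norm_num

theorem t0_fixU : t0 • Spor.leechU = Spor.leechU := by
  rw [← rootV_uF]; exact supp_iff.1 (supp_root uF)

/-- The involution. -/
def t2 : Spor.Co2 := ⟨(t0 : Equiv.Perm leechLattice), t0.2, t0_fixU⟩

/-- The centraliser is the stabiliser of the root. -/
def centEquiv : Subgroup.centralizer ({t2} : Set Spor.Co2) ≃* St where
  toFun x := ⟨⟨⟨((x : Spor.Co2) : Equiv.Perm leechLattice), (x : Spor.Co2).2.1⟩,
    mem_Cc.2 (Subtype.ext (congrArg (fun y : Spor.Co2 => (y : Equiv.Perm leechLattice))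
      (Subgroup.mem_centralizer_singleton_iff.1 x.2)))⟩,
    mem_St.2 (rootV_inj (by rw [rho_spec, rootV_uF]; exact (x : Spor.Co2).2.2))⟩
  invFun g := ⟨⟨(((g : Cc) : Co0) : Equiv.Perm leechLattice), ((g : Cc) : Co0).2, st_fix g.2⟩,
    Subgroup.mem_centralizer_singleton_iff.2 (Subtype.ext
      (congrArg (fun y : Co0 => (y : Equiv.Perm leechLattice)) (mem_Cc.1 (g : Cc).2)))⟩
  left_inv _ := rfl
  right_inv _ := rfl
  map_mul' _ _ := rfl

/-- **The involution centraliser.** -/
theorem co2_main : ∃ t : ↥Spor.Co2, orderOf t = 2 ∧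
    IsExtraspecial 2 (Cfsg.pCore 2 ↥(Subgroup.centralizer ({t} : Set ↥Spor.Co2))) ∧
    Nat.card (Cfsg.pCore 2 ↥(Subgroup.centralizer ({t} : Set ↥Spor.Co2))) = 2 ^ 9 ∧
    Nonempty (↥(Subgroup.centralizer ({t} : Set ↥Spor.Co2)) ⧸
      Cfsg.pCore 2 ↥(Subgroup.centralizer ({t} : Set ↥Spor.Co2)) ≃*
        Matrix.symplecticGroup (Fin 3) (ZMod 2)) := by
  have : Fact (Nat.Prime 2) := ⟨Nat.prime_two⟩
  obtain ⟨hp, ⟨E⟩⟩ := st_core
  have hmap : (Cfsg.pCore 2 ↥(Subgroup.centralizer ({t2} : Set Spor.Co2))).map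
      centEquiv.toMonoidHom = act63.ker := (pCore_congr' centEquiv).trans hp
  let K : Cfsg.pCore 2 ↥(Subgroup.centralizer ({t2} : Set Spor.Co2)) ≃* rho.ker :=
    ((Subgroup.equivMapOfInjective _ centEquiv.toMonoidHom centEquiv.injective).trans
      (MulEquiv.subgroupCongr (hmap.trans act63_facts.2))).trans
        (Subgroup.subgroupOfEquivOfLe ker_le_St)
  have hn := FittingCores.pCore_normal (G := ↥(Subgroup.centralizer ({t2} : Set Spor.Co2))) 2
  refine ⟨t2, orderOf_eq_prime ?_ fun h => ?_, Qd.isExtraspecial_congr K ker_xs, ?_,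
    ⟨(QuotientGroup.congr _ act63.ker centEquiv hmap).trans E⟩⟩
  · rw [pow_two]
    exact Subtype.ext (congrArg (fun y : Co0 => (y : Equiv.Perm leechLattice)) t0_sq)
  · exact t0_ne_one (Subtype.ext (congrArg (fun y : Spor.Co2 => (y : Equiv.Perm leechLattice)) h))
  · rw [Nat.card_congr K.toEquiv, card_ker]; norm_num

end Cfsg.Agent.E8Cent
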