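import Cfsg.Agent.Lib.Leech.Co0
import Cfsg.Agent.Lib.Leech.CrossOrbits
import Cfsg.Agent.Lib.E8Cent.Data

/-! The lattice vectors supported on an octad: roots, and the 135 classes of norm 8. -/

set_option autoImplicit false
set_option maxRecDepth 20000

noncomputable section

namespace Cfsg.Agent.E8Cent

open Cfsg Cfsg.Agent.Golay Cfsg.Agent.Leech Finset
open Cfsg.Agent.LatticeMod2 (Cong)

/-- Inside the octad. -/
abbrev InO (p : GolayPt) : Prop := oMask.testBit (idx p) = true

/-- The position of a point in the octad, 8 if outside. -/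
def pos (p : GolayPt) : ℕ := oIdx.idxOf (idx p)

/-- The points of the octad. -/
def oPt (k : Fin 8) : GolayPt := pt (Fin.ofNat 24 (oIdx.getD k 0))

theorem pos_in : ∀ p : GolayPt, InO p → ∃ k : Fin 8, (k : ℕ) = pos p ∧ oPt k = p := by decide +kernel

theorem pos_out : ∀ p : GolayPt, ¬ InO p → pos p = 8 := by decide +kernel

theorem pos_oPt : ∀ k : Fin 8, pos (oPt k) = k ∧ InO (oPt k) := by decide +kernel

theorem oPt_inj : ∀ k l : Fin 8, oPt k = oPt l → k = l := by decide +kernel

theorem oSet_mem : maskSet oMask ∈ octads := by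
  have h : inCode oMask = true ∧ popCount oMask 24 = 8 := by decide +kernel
  exact mem_octads.2 ⟨oMask, mem_octadList.2 ⟨inCode_iff.1 h.1, h.2⟩, rfl⟩

theorem none_inO : InO none := by decide +kernel

/-- The vector supported on the octad with given half coordinates. -/
def emb (y : List ℤ) : GolayPt → ℤ := fun p => 2 * y.getD (pos p) 0

theorem emb_out {y : List ℤ} (hy : y.length = 8) {p : GolayPt} (hp : ¬ InO p) : emb y p = 0 := by
  rw [emb, pos_out p hp, List.getD_eq_default _ _ (by omega), mul_zero]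

theorem emb_oPt (y : List ℤ) (k : Fin 8) : emb y (oPt k) = 2 * y.getD k 0 := by
  rw [emb, (pos_oPt k).1]

theorem emb_inj {a b : List ℤ} (ha : a.length = 8) (hb : b.length = 8) (h : emb a = emb b) : a = b := by
  refine List.ext_getElem (ha.trans hb.symm) fun k hk hk' => ?_
  have := congrFun h (oPt ⟨k, ha ▸ hk⟩)
  rw [emb_oPt, emb_oPt, List.getD_eq_getElem _ _ hk, List.getD_eq_getElem _ _ hk'] at this
  omega

theorem sum_octad (f : GolayPt → ℤ) (h : ∀ p, ¬ InO p → f p = 0) : ∑ p, f p = ∑ k, f (oPt k) := by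
  rw [← sum_image (g := oPt) (fun a _ b _ e => oPt_inj a b e)]
  refine (sum_subset (subset_univ _) fun p _ hp => h p fun hin => hp ?_).symm
  obtain ⟨k, -, hk⟩ := pos_in p hin
  exact mem_image.2 ⟨k, mem_univ _, hk⟩

theorem eq_ofFn {y : List ℤ} (hy : y.length = 8) : y = List.ofFn fun k : Fin 8 => y.getD k 0 := by
  refine List.ext_getElem (by simpa using hy) fun k hk hk' => ?_
  rw [List.getElem_ofFn, List.getD_eq_getElem _ _ hk]

theorem sum_list {y : List ℤ} (hy : y.length = 8) (f : ℤ → ℤ) :
    (y.map f).sum = ∑ k : Fin 8, f (y.getD k 0) := by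
  conv_lhs => rw [eq_ofFn hy]
  rw [List.map_ofFn, List.sum_ofFn]
  rfl

/-- Equal parities and sum divisible by four. -/
def yOK (y : List ℤ) : Bool :=
  (y.all fun a => (a - y.headD 0) % 2 == 0) && y.sum % 4 == 0

/-- The sum of squares. -/
def nsq : List ℤ → ℕ
  | [] => 0
  | a :: y => a.natAbs * a.natAbs + nsq y

theorem nsq_cast : ∀ y : List ℤ, (nsq y : ℤ) = (y.map fun a => a * a).sum
  | [] => rfl
  | a :: y => by
    rw [nsq, List.map_cons, List.sum_cons, Nat.cast_add, nsq_cast y, Nat.cast_mul, Int.natAbs_mul_self']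

theorem sqNorm_emb {y : List ℤ} (hy : y.length = 8) : sqNorm (emb y) = 4 * (nsq y : ℤ) := by
  rw [nsq_cast, sum_list hy, sqNorm, sum_octad _ (fun p hp => by rw [emb_out hy hp]; ring), mul_sum]
  exact sum_congr rfl fun k _ => by rw [emb_oPt]; ring

theorem octad_word : ofMask oMask ∈ golayCode := ofMask_mem_golayCode (by decide +kernel)

theorem emb_mem {y : List ℤ} (hy : y.length = 8) (h : yOK y = true) : emb y ∈ leechLattice := by
  simp only [yOK, Bool.and_eq_true, List.all_eq_true, beq_iff_eq] at h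
  obtain ⟨hp, hs⟩ := h
  refine mem_leech.2 ⟨0, fun i => ?_, ?_, ?_⟩
  · simp [emb]
  · rw [sum_octad _ (fun p hp => emb_out hy hp)]
    have e := sum_list hy id
    rw [List.map_id] at e
    simp only [emb_oPt, ← mul_sum, id_eq] at e ⊢
    rw [← e]
    omega
  · have key : hword 0 (emb y) = if (2 : ℤ) ∣ y.headD 0 then 0 else ofMask oMask := by
      funext p
      have e2 : (emb y p - 0) / 2 = y.getD (pos p) 0 := by simp [emb]
      simp only [hword, e2]
      by_cases hin : InO p
      · obtain ⟨k, hk, -⟩ := pos_in p hin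
        have hk' : pos p < y.length := by omega
        have hd := hp _ (List.getElem_mem hk')
        rw [List.getD_eq_getElem _ _ hk']
        split_ifs with hh
        · exact (ZMod.intCast_zmod_eq_zero_iff_dvd _ 2).2 (by push_cast; omega)
        · obtain ⟨b, hb⟩ : ∃ b, y[pos p] = 2 * b + 1 := ⟨y[pos p] / 2, by omega⟩
          simp [hb, ofMask, show oMask.testBit (idx p) = true from hin, show (2 : ZMod 2) = 0 from rfl]
      · rw [pos_out p hin, List.getD_eq_default _ _ (by omega), Int.cast_zero]
        split_ifs <;> simp [ofMask, Bool.eq_false_iff.2 hin]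
    rw [key]
    split_ifs
    exacts [golayCode.zero_mem, octad_word]

/-- Vanishing outside the octad. -/
def Supp (v : leechLattice) : Prop := ∀ p, ¬ InO p → (v : GolayPt → ℤ) p = 0

theorem supp_spec {v : leechLattice} (hv : Supp v) :
    ∃ y : List ℤ, y.length = 8 ∧ yOK y = true ∧ (v : GolayPt → ℤ) = emb y := by
  obtain ⟨q, hq⟩ : ∃ q : GolayPt, ¬ InO q := by decide +kernel
  obtain ⟨m, hm0, hL⟩ := exists_parity v.2
  obtain rfl : m = 0 := by
    rcases hm0 with h | h
    · exact h
    · subst h
      have := hL.1 q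
      rw [hv q hq] at this
      omega
  obtain ⟨hpar, hsum, hword⟩ := hL
  refine ⟨List.ofFn fun k : Fin 8 => (v : GolayPt → ℤ) (oPt k) / 2, by simp, ?_, ?_⟩
  · have hw : ∀ k, Cfsg.Agent.Leech.hword 0 (v : GolayPt → ℤ) (oPt k) =
        ((((v : GolayPt → ℤ) (oPt k) / 2 : ℤ)) : ZMod 2) := fun k => by simp [Cfsg.Agent.Leech.hword]
    have hcase := code_word_small hword octad_word (S := maskSet oMask)
      (fun i hi => by
        simp only [support₂, mem_filter, mem_univ, true_and] at hi
        by_contra hin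
        apply hi
        have : ¬ InO i := fun h => hin (mem_maskSet.2 h)
        simp [Cfsg.Agent.Leech.hword, hv i this])
      (fun i hi => by
        simp only [support₂, mem_filter, mem_univ, true_and, ofMask] at hi
        refine mem_maskSet.2 ?_
        by_contra hin
        simp [hin] at hi)
      (by decide +kernel)
    simp only [yOK, Bool.and_eq_true, List.all_eq_true, beq_iff_eq, List.mem_ofFn]
    refine ⟨?_, ?_⟩
    · rintro _ ⟨k, rfl⟩
      rw [show (List.ofFn fun k : Fin 8 => (v : GolayPt → ℤ) (oPt k) / 2).headD 0 =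
        (v : GolayPt → ℤ) (oPt 0) / 2 by simp [List.ofFn_succ]]
      have e : Cfsg.Agent.Leech.hword 0 (v : GolayPt → ℤ) (oPt k) =
          Cfsg.Agent.Leech.hword 0 (v : GolayPt → ℤ) (oPt 0) := by
        rcases hcase with h | h <;> rw [h]
        · rfl
        · simp [ofMask, (pos_oPt k).2, (pos_oPt 0).2]
      rw [hw, hw, ZMod.intCast_eq_intCast_iff_dvd_sub] at e
      push_cast at e
      omega
    · rw [List.sum_ofFn]
      have e : ∑ i, (v : GolayPt → ℤ) i = 2 * ∑ k : Fin 8, (v : GolayPt → ℤ) (oPt k) / 2 := by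
        rw [sum_octad _ hv, mul_sum]
        exact sum_congr rfl fun k _ => by have := hpar (oPt k); omega
      omega
  · funext p
    by_cases hin : InO p
    · obtain ⟨k, hk, hkp⟩ := pos_in p hin
      rw [← hkp, emb_oPt, List.getD_eq_getElem _ _ (by simp), List.getElem_ofFn]
      have := hpar (oPt k)
      simp only [Fin.eta]
      omega
    · rw [hv p hin, emb_out (by simp) hin]

/-! ### Enumeration -/

/-- Lists with entries from `es` and given sum of squares. -/
def gen (es : List ℤ) : ℕ → ℕ → List (List ℤ)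
  | 0, N => if N = 0 then [[]] else []
  | k + 1, N => es.flatMap fun a =>
      if a.natAbs * a.natAbs ≤ N then (gen es k (N - a.natAbs * a.natAbs)).map (a :: ·) else []

theorem mem_gen {es : List ℤ} : ∀ (y : List ℤ), (∀ a ∈ y, a ∈ es) → y ∈ gen es y.length (nsq y)
  | [], _ => by simp [gen, nsq]
  | a :: y, h => by
    simp only [List.length_cons, gen, List.mem_flatMap]
    refine ⟨a, h a List.mem_cons_self, ?_⟩
    rw [if_pos (show a.natAbs * a.natAbs ≤ nsq (a :: y) by rw [nsq]; omega), List.mem_map]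
    refine ⟨y, ?_, rfl⟩
    rw [nsq, show a.natAbs * a.natAbs + nsq y - a.natAbs * a.natAbs = nsq y by omega]
    exact mem_gen y fun b hb => h b (List.mem_cons_of_mem _ hb)

/-- Small even numbers. -/
def evs : List ℤ := [0, 2, -2, 4, -4]

/-- Small odd numbers. -/
def ods : List ℤ := [1, -1, 3, -3]

/-- All admissible lists of length eight with sum of squares `N`. -/
def shellList (N : ℕ) : List (List ℤ) :=
  (gen evs 8 N ++ gen ods 8 N).filter fun y => y.sum % 4 == 0

theorem sq_le_nsq : ∀ {y : List ℤ} {a : ℤ}, a ∈ y → a.natAbs * a.natAbs ≤ nsq y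
  | b :: y, a, h => by
    rcases List.mem_cons.1 h with rfl | h
    · rw [nsq]; omega
    · have := sq_le_nsq h; rw [nsq]; omega

theorem mem_shellList {y : List ℤ} (hy : y.length = 8) (hok : yOK y = true) {N : ℕ} (hN : nsq y = N)
    (hN16 : N ≤ 16) : y ∈ shellList N := by
  simp only [yOK, Bool.and_eq_true, List.all_eq_true, beq_iff_eq] at hok
  obtain ⟨hp, hs⟩ := hok
  refine List.mem_filter.2 ⟨List.mem_append.2 ?_, by simpa using hs⟩
  have hb : ∀ a ∈ y, -4 ≤ a ∧ a ≤ 4 := fun a ha => by
    have h1 := sq_le_nsq ha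
    have h2 : a.natAbs ≤ 4 := by
      by_contra h3
      have := Nat.mul_le_mul (show 5 ≤ a.natAbs by omega) (show 5 ≤ a.natAbs by omega)
      omega
    omega
  by_cases hh : y.headD 0 % 2 = 0
  · left
    have := mem_gen (es := evs) y fun a ha => by
      obtain ⟨h1, h2⟩ := hb a ha
      have h3 := hp a ha
      interval_cases a <;> first | omega | decide
    rwa [hy, hN] at this
  · right
    have := mem_gen (es := ods) y fun a ha => by
      obtain ⟨h1, h2⟩ := hb a ha
      have h3 := hp a ha
      interval_cases a <;> first | omega | decide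
    rwa [hy, hN] at this

/-- The 240 roots. -/
def rootList : List (List ℤ) := shellList 8

theorem rootList_ok : rootList.length = 240 ∧
    (rootList.all fun y => Nat.beq y.length 8 && yOK y && Nat.beq (nsq y) 8) = true := by
  decide +kernel

theorem rootList_nodup : rootList.Nodup := by decide +kernel

/-- The half coordinates of a root. -/
def rootY (i : Fin 240) : List ℤ := rootList[(i : ℕ)]'(by rw [rootList_ok.1]; exact i.2)

theorem rootY_ok (i : Fin 240) : (rootY i).length = 8 ∧ yOK (rootY i) = true ∧ nsq (rootY i) = 8 := by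
  have := List.all_eq_true.1 rootList_ok.2 (rootY i) (List.getElem_mem _)
  simp only [Bool.and_eq_true, Nat.beq_eq] at this
  exact ⟨this.1.1, this.1.2, this.2⟩

/-- A root. -/
def rootV (i : Fin 240) : leechLattice := ⟨emb (rootY i), emb_mem (rootY_ok i).1 (rootY_ok i).2.1⟩

theorem supp_root (i : Fin 240) : Supp (rootV i) := fun _ hp => emb_out (rootY_ok i).1 hp

theorem rootV_inj : Function.Injective rootV := fun i j e => by
  have h := emb_inj (rootY_ok i).1 (rootY_ok j).1 (congrArg Subtype.val e)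
  exact Fin.ext ((rootList_nodup.getElem_inj_iff).1 h)

theorem sqNorm_root (i : Fin 240) : sqNorm (rootV i : GolayPt → ℤ) = 32 := by
  show sqNorm (emb (rootY i)) = 32
  rw [sqNorm_emb (rootY_ok i).1, (rootY_ok i).2.2]
  norm_num

theorem exists_root {v : leechLattice} (hv : Supp v) (hn : sqNorm (v : GolayPt → ℤ) = 32) :
    ∃ i, rootV i = v := by
  obtain ⟨y, hy, hok, e⟩ := supp_spec hv
  rw [e, sqNorm_emb hy] at hn
  obtain ⟨i, hi, hiy⟩ := List.mem_iff_getElem.1 (mem_shellList hy hok (N := 8) (by omega) (by norm_num))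
  have hi' : i < 240 := by rw [← rootList_ok.1]; exact hi
  refine ⟨⟨i, hi'⟩, Subtype.ext ?_⟩
  show emb (rootY ⟨i, hi'⟩) = _
  rw [e, ← hiy]
  rfl

theorem axis_eq_emb (k : Fin 8) :
    (axis (oPt k) : GolayPt → ℤ) = emb (List.ofFn fun l : Fin 8 => if l = k then 4 else 0) := by
  funext p
  rw [coe_axis, Pi.single_apply]
  by_cases hin : InO p
  · obtain ⟨l, hl, hlp⟩ := pos_in p hin
    rw [← hlp, emb_oPt, List.getD_eq_getElem _ _ (by simp), List.getElem_ofFn]
    rcases eq_or_ne l k with rfl | h
    · simp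
    · rw [if_neg fun e => h (oPt_inj _ _ e), if_neg (by simpa using h)]
      norm_num
  · rw [emb_out (by simp) hin, if_neg]
    rintro rfl
    exact hin (pos_oPt k).2

theorem axis_wit : ∀ k : Fin 8, ∃ a b : Fin 240, a = Fin.ofNat 240 (axWit.getD k (0, 0)).1 ∧
    b = Fin.ofNat 240 (axWit.getD k (0, 0)).2 ∧
    (List.ofFn fun l : Fin 8 => if l = k then (4 : ℤ) else 0) =
      List.zipWith (· + ·) (rootY a) (rootY b) := fun k =>
  ⟨_, _, rfl, rfl, (by decide +kernel : ∀ k : Fin 8,
    (List.ofFn fun l : Fin 8 => if l = k then (4 : ℤ) else 0) = List.zipWith (· + ·)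
      (rootY (Fin.ofNat 240 (axWit.getD k (0, 0)).1)) (rootY (Fin.ofNat 240 (axWit.getD k (0, 0)).2))) k⟩

theorem getD_zipWith (f : ℤ → ℤ → ℤ) (h0 : f 0 0 = 0) {a b : List ℤ} (h : a.length = b.length)
    (n : ℕ) : (List.zipWith f a b).getD n 0 = f (a.getD n 0) (b.getD n 0) := by
  rcases Nat.lt_or_ge n a.length with hn | hn
  · rw [List.getD_eq_getElem _ _ (by simp; omega), List.getD_eq_getElem _ _ hn,
      List.getD_eq_getElem _ _ (by omega), List.getElem_zipWith]
  · rw [List.getD_eq_default _ _ (by simp; omega), List.getD_eq_default _ _ hn,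
      List.getD_eq_default _ _ (by omega), h0]

theorem axis_sum (k : Fin 8) : ∃ a b, axis (oPt k) = rootV a + rootV b := by
  obtain ⟨a, b, -, -, e⟩ := axis_wit k
  refine ⟨a, b, Subtype.ext ?_⟩
  rw [axis_eq_emb, e]
  funext p
  rw [AddSubgroup.coe_add, Pi.add_apply]
  show emb _ p = emb (rootY a) p + emb (rootY b) p
  unfold emb
  rw [getD_zipWith _ (by norm_num) (by rw [(rootY_ok a).1, (rootY_ok b).1])]
  ring

/-- A listed class. -/
def halfOK (y r : List ℤ) : Bool :=
  (List.zipWith (fun a b => (a - b) % 2) y r).all (· == 0) &&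
    yOK (List.zipWith (fun a b => (a - b) / 2) y r)

theorem reps_ok : repList.length = 135 ∧
    (repList.all fun r => Nat.beq r.length 8 && yOK r && Nat.beq (nsq r) 16) = true := by decide +kernel

theorem shell16_ok :
    ((shellList 16).all fun y => Nat.beq y.length 8 && repList.any (halfOK y)) = true := by
  decide +kernel

open scoped Classical in
/-- The vector with given half coordinates. -/
def vecY (y : List ℤ) : leechLattice := if h : emb y ∈ leechLattice then ⟨emb y, h⟩ else 0

theorem vecY_val {y : List ℤ} (hy : y.length = 8) (h : yOK y = true) :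
    (vecY y : GolayPt → ℤ) = emb y := by rw [vecY, dif_pos (emb_mem hy h)]

/-- **At most 135 classes of norm 8.** -/
theorem exists_rep {v : leechLattice} (hv : Supp v) (hn : ip v v = 8) :
    ∃ r ∈ repList, xCross v = xCross (vecY r) := by
  obtain ⟨y, hy, hok, e⟩ := supp_spec hv
  have h64 := ip_self_iff.1 hn
  rw [e, sqNorm_emb hy] at h64
  have hmem := mem_shellList hy hok (N := 16) (by omega) le_rfl
  have h := List.all_eq_true.1 shell16_ok y hmem
  simp only [Bool.and_eq_true, Nat.beq_eq, List.any_eq_true] at h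
  obtain ⟨r, hr, hh⟩ := h.2
  have hrr := List.all_eq_true.1 reps_ok.2 r hr
  simp only [Bool.and_eq_true, Nat.beq_eq] at hrr
  obtain ⟨⟨hrl, hrok⟩, hrn⟩ := hrr
  simp only [halfOK, Bool.and_eq_true, List.all_eq_true, beq_iff_eq] at hh
  obtain ⟨hev, hd⟩ := hh
  have hrv : ip (vecY r) (vecY r) = 8 :=
    ip_self_iff.2 (by rw [vecY_val hrl hrok, sqNorm_emb hrl, hrn]; norm_num)
  refine ⟨r, hr, (xCross_eq_of_mem (x := v) (y := vecY r) ⟨hrv, ?_⟩).symm⟩
  refine ⟨⟨_, emb_mem (by simp [hy, hrl]) hd⟩, Subtype.ext (funext fun p => ?_)⟩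
  simp only [AddSubgroup.coe_sub, AddSubgroup.coe_nsmul, Pi.sub_apply, Pi.smul_apply, nsmul_eq_mul,
    vecY_val hrl hrok, e, emb]
  rw [getD_zipWith _ (by norm_num) (by omega)]
  have hpar : (y.getD (pos p) 0 - r.getD (pos p) 0) % 2 = 0 := by
    rw [← getD_zipWith (fun a b => (a - b) % 2) (by norm_num) (by omega)]
    rcases Nat.lt_or_ge (pos p) (List.zipWith (fun a b : ℤ => (a - b) % 2) y r).length with h1 | h1
    · rw [List.getD_eq_getElem _ _ h1]
      exact hev _ (List.getElem_mem h1)
    · rw [List.getD_eq_default _ _ h1]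
  push_cast
  omega

end Cfsg.Agent.E8Cent
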