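import Cfsg.Agent.Lib.SporPerm.Realise
import Cfsg.Agent.Lib.E8Cent.Lattice
import Cfsg.Agent.Lib.G24J2.Orbits

/-! Kernel checks for the centraliser of an octad sign change. -/

set_option autoImplicit false
set_option maxRecDepth 20000
set_option Elab.async false

namespace Cfsg.Agent.E8Cent

open Cfsg Cfsg.Agent.Golay Cfsg.Agent.PermCert

theorem e8_light : lightCert 8 240 e8Gens e8Derived e8Levels = true := by decide +kernel

theorem e8_order : certOrder e8Levels = 348364800 := by decide +kernel

/-- The coordinate list of a supported vector. -/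
def coords (y : List ℤ) : List ℤ := (List.range 24).map fun i => 2 * y.getD (oIdx.idxOf i) 0

/-- A matrix does not mix the octad with its complement. -/
def splitOK (M : List (List ℤ)) : Bool :=
  allBelow (fun i => allBelow (fun j =>
    oMask.testBit i == oMask.testBit j || SporPerm.entry M i j == 0) 24) 24

/-- A matrix induces the listed permutation of the roots. -/
def imgRootOK (M : List (List ℤ)) (c : ℕ) : Bool :=
  allBelow (fun i => SporPerm.eqV (M.map fun r => SporPerm.rowDot r (coords (rootList.getD i [])) / 8)
    (coords (rootList.getD (get 8 c i) []))) 240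

theorem e8_gen0 : SporPerm.matOK e8Mat0 = true ∧ splitOK e8Mat0 = true ∧
    validElt 8 240 (e8Gens.getD 0 (0, 0)) = true ∧
    imgRootOK e8Mat0 (e8Gens.getD 0 (0, 0)).1 = true := by decide +kernel

theorem e8_gen1 : SporPerm.matOK e8Mat1 = true ∧ splitOK e8Mat1 = true ∧
    validElt 8 240 (e8Gens.getD 1 (0, 0)) = true ∧
    imgRootOK e8Mat1 (e8Gens.getD 1 (0, 0)).1 = true ∧ e8Gens.length = 2 := by decide +kernel

theorem e8_orb : G24J2.orbOK 8 240 e8Gens [0] e8Tree 0 = true := by decide +kernel

theorem x_code : inCode xMask = true ∧ inCode oMask = true := by decide +kernel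

theorem wMasks_ok : wMasks.length = 32 ∧ wMasks.Nodup ∧
    (wMasks.all fun m => inCode m && Nat.blt m 16777216 && Nat.beq (Nat.land m oMask) 0) = true := by
  decide +kernel

theorem octPerms_ok : octPerms.length = 16 ∧ (octPerms.map Prod.fst).Nodup ∧
    (octPerms.all fun e => validElt 5 24 e && isAutB e &&
      oIdx.all fun i => Nat.beq (get 5 e.1 i) i) = true := by decide +kernel

theorem neg_ok : allBelow (fun i => Nat.blt (get 8 negCode i) 240 &&
    SporPerm.eqV (rootList.getD (get 8 negCode i) []) ((rootList.getD i []).map fun a => -a)) 240 = true := by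
  decide +kernel

end Cfsg.Agent.E8Cent
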