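import Cfsg.Agent.Lib.E8Cent.Checks
import Cfsg.Agent.Lib.Golay.OctadStab
import Cfsg.Agent.Lib.Leech.Co1

/-! The centraliser of an octad sign change: its action on the 240 roots, its order and the kernel. -/

set_option autoImplicit false
set_option maxRecDepth 20000
set_option linter.unusedSimpArgs false

noncomputable section

namespace Cfsg.Agent.E8Cent

open Cfsg Cfsg.Agent.Golay Cfsg.Agent.Leech Cfsg.Agent.PermCert Finset
open Cfsg.Agent.LatticeMod2 (Cong)
open scoped Pointwise

attribute [local irreducible] e8Gens e8Derived e8Levels e8Mat0 e8Mat1 e8Tree rootList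

/-- The word of the complement of the octad. -/
def xWord : golayCode := ⟨ofMask xMask, ofMask_mem_golayCode x_code.1⟩

/-- The sign change off the octad. -/
def t0 : Co0 := diag xWord

/-- The sign of a point. -/
def sg (p : GolayPt) : ℤ := if oMask.testBit (idx p) then 1 else -1

theorem sgn_xWord : ∀ p : GolayPt, sgn (ofMask xMask) p = sg p := by decide +kernel

theorem t0_smul (v : leechLattice) (p : GolayPt) :
    ((t0 • v : leechLattice) : GolayPt → ℤ) p = sg p * (v : GolayPt → ℤ) p := by
  show ((mono (1, xWord) • v : leechLattice) : GolayPt → ℤ) p = _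
  rw [mono_smul]
  show sgn (ofMask xMask) p * _ = _
  rw [sgn_xWord]
  rfl

theorem supp_iff {v : leechLattice} : Supp v ↔ t0 • v = v := by
  constructor
  · intro h
    refine Subtype.ext (funext fun p => ?_)
    rw [t0_smul]
    by_cases hp : InO p
    · rw [sg, if_pos hp, one_mul]
    · rw [h p hp, mul_zero]
  · intro h p hp
    have := congrFun (congrArg Subtype.val h) p
    rw [t0_smul, sg, if_neg hp] at this
    omega

/-- The centraliser. -/
def Cc : Subgroup Co0 := Subgroup.centralizer {t0}

theorem mem_Cc {g : Co0} : g ∈ Cc ↔ g * t0 = t0 * g :=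
  Subgroup.mem_centralizer_singleton_iff

theorem supp_smul (g : Cc) {v : leechLattice} (hv : Supp v) : Supp ((g : Co0) • v) := by
  rw [supp_iff, ← mul_smul, ← mem_Cc.1 g.2, mul_smul, supp_iff.1 hv]

theorem exists_act (g : Cc) (i : Fin 240) : ∃ j, rootV j = (g : Co0) • rootV i :=
  exists_root (supp_smul g (supp_root i)) (by rw [co0_norm, sqNorm_root])

/-- The image of a root. -/
def actF (g : Cc) (i : Fin 240) : Fin 240 := (exists_act g i).choose

theorem actF_spec (g : Cc) (i : Fin 240) : rootV (actF g i) = (g : Co0) • rootV i :=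
  (exists_act g i).choose_spec

theorem actF_inj (g : Cc) : Function.Injective (actF g) := fun i j e => rootV_inj (by
  have h := congrArg rootV e
  rw [actF_spec, actF_spec] at h
  exact MulAction.injective (g : Co0) h)

/-- The action on the roots. -/
def rho : Cc →* Equiv.Perm (Fin 240) :=
  MonoidHom.mk' (fun g => Equiv.ofBijective (actF g) (Finite.injective_iff_bijective.1 (actF_inj g)))
    fun g h => Equiv.ext fun i => rootV_inj (by
      show rootV (actF (g * h) i) = rootV (actF g (actF h i))
      rw [actF_spec, actF_spec, actF_spec, Subgroup.coe_mul, mul_smul])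

theorem rho_spec (g : Cc) (i : Fin 240) : rootV (rho g i) = (g : Co0) • rootV i := actF_spec g i

/-! ### The kernel -/

theorem mem_ker_iff {g : Cc} : g ∈ rho.ker ↔ ∀ i, (g : Co0) • rootV i = rootV i := by
  rw [MonoidHom.mem_ker]
  exact ⟨fun h i => by rw [← rho_spec, h]; rfl,
    fun h => Equiv.ext fun i => rootV_inj (by rw [rho_spec, h]; rfl)⟩

theorem ker_fix_axis {g : Cc} (hg : g ∈ rho.ker) {p : GolayPt} (hp : InO p) :
    (g : Co0) • axis p = axis p := by
  obtain ⟨k, -, rfl⟩ := pos_in p hp
  obtain ⟨a, b, e⟩ := axis_sum k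
  rw [e, co0_add, mem_ker_iff.1 hg, mem_ker_iff.1 hg]

theorem ker_mono {g : Cc} (hg : g ∈ rho.ker) : ∃ a, mono a = (g : Co0) ∧ ∀ p, InO p →
    (a.1 : Equiv.Perm GolayPt) p = p ∧ (a.2 : GolayPt → ZMod 2) p = 0 := by
  have h0 := ker_fix_axis hg none_inO
  have hst : (g : Co0) ∈ crossStab := by
    rw [crossStab, MulAction.mem_stabilizer_iff, smul_xCross, h0]
  obtain ⟨a, ha⟩ := fixesStd_iff.1 (mem_crossStab.1 hst)
  refine ⟨a, ha, fun p hp => ?_⟩
  have h1 := ker_fix_axis hg hp
  rw [← ha, mono_axis] at h1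
  nth_rewrite 1 [← one_smul ℤ (axis p)] at h1
  obtain ⟨e1, e2⟩ := sgn_axis_inj (sgn_cases _ _) h1
  refine ⟨e1, ?_⟩
  rw [e1] at e2
  simp only [sgn] at e2
  split_ifs at e2 with h
  exact h

/-- The pairs which fix the octad pointwise. -/
def FixPair (a : M24 × golayCode) : Prop :=
  ∀ p, InO p → (a.1 : Equiv.Perm GolayPt) p = p ∧ (a.2 : GolayPt → ZMod 2) p = 0

theorem perm_keeps {σ : Equiv.Perm GolayPt} (h : ∀ p, InO p → σ p = p) (p : GolayPt) :
    InO (σ p) ↔ InO p :=
  ⟨fun hp => by rwa [σ.injective (h _ hp)] at hp, fun hp => by rwa [h p hp]⟩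

theorem mono_mem_Cc {a : M24 × golayCode} (h : ∀ p, InO ((a.1 : Equiv.Perm GolayPt) p) ↔ InO p) :
    mono a ∈ Cc := by
  rw [mem_Cc]
  refine co0_ext fun i => Subtype.ext (funext fun q => ?_)
  rw [mul_smul, mul_smul, mono_smul, t0_smul]
  show sgn (a.2 : GolayPt → ZMod 2) q * _ = _
  rw [t0_smul, mono_smul]
  simp only [monoFun]
  have e : sg ((a.1 : Equiv.Perm GolayPt).symm q) = sg q := by
    have := h ((a.1 : Equiv.Perm GolayPt).symm q)
    rw [Equiv.apply_symm_apply] at this
    unfold sg
    by_cases hq : InO q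
    · rw [if_pos hq, if_pos (this.1 hq)]
    · rw [if_neg hq, if_neg fun h' => hq (this.2 h')]
  rw [e]
  ring

theorem mem_ker_of_fixPair {a : M24 × golayCode} (h : FixPair a) :
    ∃ g : Cc, (g : Co0) = mono a ∧ g ∈ rho.ker := by
  refine ⟨⟨mono a, mono_mem_Cc (perm_keeps fun p hp => (h p hp).1)⟩, rfl,
    mem_ker_iff.2 fun i => Subtype.ext (funext fun q => ?_)⟩
  show ((mono a • rootV i : leechLattice) : GolayPt → ℤ) q = _
  rw [mono_smul]
  simp only [monoFun]
  by_cases hq : InO q
  · have e : (a.1 : Equiv.Perm GolayPt).symm q = q := by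
      rw [Equiv.symm_apply_eq]; exact (h q hq).1.symm
    rw [e, sgn, if_pos (h q hq).2, one_mul]
  · have e : ¬ InO ((a.1 : Equiv.Perm GolayPt).symm q) := fun h' => hq (by
      have := (perm_keeps (fun p hp => (h p hp).1) _).2 h'
      rwa [Equiv.apply_symm_apply] at this)
    rw [supp_root i q hq, supp_root i _ e, mul_zero]

/-- A translation fixing the octad. -/
def octP (k : Fin 16) : Equiv.Perm GolayPt := permOf (octPerms.getD k (0, 0))

/-- A word vanishing on the octad. -/
def wW (j : Fin 32) : GolayPt → ZMod 2 := ofMask (wMasks.getD j 0)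

theorem octP_ok (k : Fin 16) : octP k ∈ M24 ∧ ∀ p, InO p → octP k p = p := by
  have hk : (k : ℕ) < octPerms.length := by rw [octPerms_ok.1]; exact k.2
  have h := List.all_eq_true.1 octPerms_ok.2.2 _ (List.getElem_mem hk)
  simp only [Bool.and_eq_true, List.all_eq_true, Nat.beq_eq] at h
  obtain ⟨⟨hv, ha⟩, hi⟩ := h
  rw [octP, List.getD_eq_getElem _ _ hk]
  refine ⟨permOf_mem_M24 hv ha, fun p hp => idx_injective ?_⟩
  rw [idx_permOf hv]
  exact hi _ ((by decide +kernel : ∀ p : GolayPt, InO p → idx p ∈ oIdx) p hp)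

theorem wW_ok (j : Fin 32) : wW j ∈ golayCode ∧ ∀ p, InO p → wW j p = 0 := by
  have hj : (j : ℕ) < wMasks.length := by rw [wMasks_ok.1]; exact j.2
  have h := List.all_eq_true.1 wMasks_ok.2.2 _ (List.getElem_mem hj)
  simp only [Bool.and_eq_true, Nat.beq_eq] at h
  obtain ⟨⟨hc, -⟩, hz⟩ := h
  rw [wW, List.getD_eq_getElem _ _ hj]
  refine ⟨ofMask_mem_golayCode hc, fun p hp => ?_⟩
  have e := congrArg (fun m => m.testBit (idx p)) (show wMasks[(j : ℕ)] &&& oMask = 0 from hz)
  simp only [Nat.testBit_and, show oMask.testBit (idx p) = true from hp, Bool.and_true,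
    Nat.zero_testBit] at e
  simp [ofMask, e]

theorem octP_inj : Function.Injective octP := by
  have h : ∀ k l : Fin 16, (∀ p, octP k p = octP l p) → k = l := by decide +kernel
  exact fun k l e => h k l fun p => by rw [e]

theorem wW_inj : Function.Injective wW := by
  have h : ∀ k l : Fin 32, (∀ p, wW k p = wW l p) → k = l := by decide +kernel
  exact fun k l e => h k l fun p => by rw [e]

/-- A pair fixing the octad. -/
def kPair (q : Fin 16 × Fin 32) : M24 × golayCode :=
  (⟨octP q.1, (octP_ok q.1).1⟩, ⟨wW q.2, (wW_ok q.2).1⟩)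

theorem kPair_fix (q : Fin 16 × Fin 32) : FixPair (kPair q) :=
  fun p hp => ⟨(octP_ok q.1).2 p hp, (wW_ok q.2).2 p hp⟩

/-- An element of the kernel. -/
def kElt (q : Fin 16 × Fin 32) : rho.ker :=
  ⟨(mem_ker_of_fixPair (kPair_fix q)).choose, (mem_ker_of_fixPair (kPair_fix q)).choose_spec.2⟩

theorem kElt_val (q : Fin 16 × Fin 32) : ((kElt q : Cc) : Co0) = mono (kPair q) :=
  (mem_ker_of_fixPair (kPair_fix q)).choose_spec.1

theorem kElt_inj : Function.Injective kElt := fun q r e => by
  have h := mono_injective ((kElt_val q).symm.trans ((congrArg (fun x : rho.ker => ((x : Cc) : Co0)) e).trans (kElt_val r)))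
  simp only [kPair, Prod.mk.injEq, Subtype.mk.injEq] at h
  exact Prod.ext (octP_inj h.1) (wW_inj h.2)

/-! ### The order -/

instance : Finite Co0 := Nat.finite_of_card_ne_zero (by rw [card_Co0]; norm_num)

theorem squeeze {a b K R : ℕ} (hK : a ≤ K) (hR : b ≤ R) (hC : K * R ≤ a * b) (ha : 0 < a)
    (hb : 0 < b) : K = a ∧ R = b := by
  constructor
  · have := (Nat.mul_le_mul_left K hR).trans hC
    exact le_antisymm (Nat.le_of_mul_le_mul_right this hb) hK
  · have := (Nat.mul_le_mul_right R hK).trans hC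
    exact le_antisymm (Nat.le_of_mul_le_mul_left this ha) hR

theorem perm_octad {g : Cc} {a : M24 × golayCode} (ha : mono a = (g : Co0)) :
    (a.1 : Equiv.Perm GolayPt) • maskSet oMask = maskSet oMask := by
  refine eq_of_subset_of_card_le ?_ (by rw [card_smul_finset])
  intro q hq
  obtain ⟨p, hp, rfl⟩ := mem_smul_finset.1 hq
  refine mem_maskSet.2 ?_
  by_contra hout
  have hs : Supp (axis p) := fun r hr => by
    rw [coe_axis, Pi.single_apply, if_neg]
    rintro rfl
    exact hr (mem_maskSet.1 hp)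
  have := supp_smul g hs ((a.1 : Equiv.Perm GolayPt) p) hout
  rw [← ha, mono_axis, AddSubgroup.coe_zsmul, Pi.smul_apply, coe_axis, Pi.single_eq_same,
    smul_eq_mul] at this
  rcases sgn_cases (a.2 : GolayPt → ZMod 2) ((a.1 : Equiv.Perm GolayPt) p) with h | h <;>
    rw [h] at this <;> omega

theorem card_stab_le : Nat.card (crossStab.subgroupOf Cc) ≤ 322560 * 4096 := by
  have hp : ∀ x : crossStab.subgroupOf Cc, ∃ a, mono a = ((x : Cc) : Co0) := fun x =>
    fixesStd_iff.1 (mem_crossStab.1 x.2)
  choose a ha using hp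
  let f : crossStab.subgroupOf Cc → stOct (maskSet oMask) × golayCode := fun x =>
    (⟨(a x).1, mem_stOct.2 ⟨(a x).1.2, perm_octad (ha x)⟩⟩, (a x).2)
  have hf : Function.Injective f := fun x y e => by
    simp only [f, Prod.mk.injEq, Subtype.mk.injEq] at e
    have : a x = a y := Prod.ext (Subtype.ext e.1) e.2
    exact Subtype.ext (Subtype.ext (by rw [← ha x, ← ha y, this]))
  refine (Nat.card_le_card_of_injective f hf).trans ?_
  rw [Nat.card_prod, card_stOct oSet_mem, card_golayCode]

theorem card_le : Nat.card Cc ≤ 512 * 348364800 := by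
  classical
  have hS : crossStab.subgroupOf Cc = MulAction.stabilizer Cc (xCross (axis none)) := by
    ext g; rfl
  have h := Subgroup.card_mul_index (crossStab.subgroupOf Cc)
  have h1 := card_stab_le
  have h2 : (MulAction.stabilizer Cc (xCross (axis none))).index ≤ 135 := by
    rw [MulAction.index_stabilizer]
    have hfin : MulAction.orbit Cc (xCross (axis none)) ⊆
        (fun r => xCross (vecY r)) '' (repList.toFinset : Set (List ℤ)) := by
      rintro _ ⟨g, rfl⟩
      have hs : Supp (axis none) := fun r hr => by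
        rw [coe_axis, Pi.single_apply, if_neg]
        rintro rfl
        exact hr none_inO
      obtain ⟨r, hr, e⟩ := exists_rep (supp_smul g hs) (by rw [co0_ip, ip_axis_self])
      refine ⟨r, by simpa using hr, ?_⟩
      show _ = (g : Co0) • xCross (axis none)
      rw [smul_xCross, e]
    refine (Set.ncard_le_ncard hfin ((Finset.finite_toSet _).image _)).trans ?_
    refine (Set.ncard_image_le (Finset.finite_toSet _)).trans ?_
    rw [Set.ncard_coe_finset]
    exact (List.toFinset_card_le _).trans reps_ok.1.le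
  rw [← hS] at h2
  rw [← h]
  calc _ ≤ (322560 * 4096) * 135 := Nat.mul_le_mul h1 h2
    _ = _ := by norm_num

theorem rowDot_coords {M : List (List ℤ)} (hM : SporPerm.shapeOK M = true) {y : List ℤ} :
    SporPerm.mapMat (SporPerm.toMat M) (emb y) =
      LeechMod.toVec (M.map fun r => SporPerm.rowDot r (coords y) / 8) := by
  have e : LeechMod.toVec (coords y) = emb y := by
    funext p
    rw [LeechMod.toVec, coords, SporPerm.getD_map_range _ (idx_lt p)]
    rfl
  rw [← e, SporPerm.mapMat_toVec hM (by simp [coords])]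

theorem gen_mem_range {M : List (List ℤ)} {e : Elt} (hM : SporPerm.matOK M = true)
    (hsp : splitOK M = true) (hv : validElt 8 240 e = true) (himg : imgRootOK M e.1 = true) :
    toPerm 8 240 e ∈ rho.range := by
  obtain ⟨g, hg, -⟩ := SporPerm.exists_of_matOK hM
  simp only [SporPerm.matOK, Bool.and_eq_true] at hM
  obtain ⟨⟨⟨hs, -⟩, hl⟩, -⟩ := hM
  have hC : g ∈ Cc := by
    rw [mem_Cc]
    refine co0_ext fun i => Subtype.ext (funext fun p => ?_)
    rw [mul_smul, mul_smul, t0_smul, hg, hg]
    obtain ⟨c, hc⟩ := (SporPerm.dvd_and_mem hs hl (axis i).2).1 p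
    have e1 : (SporPerm.toMat M).mulVec ((t0 • axis i : leechLattice) : GolayPt → ℤ) p =
        sg p * (SporPerm.toMat M).mulVec (axis i : GolayPt → ℤ) p := by
      simp only [Matrix.mulVec, dotProduct, Finset.mul_sum]
      refine sum_congr rfl fun q _ => ?_
      rw [t0_smul]
      have hk := allBelow_spec _ _ (allBelow_spec _ _ hsp _ (idx_lt p)) _ (idx_lt q)
      simp only [Bool.or_eq_true, beq_iff_eq] at hk
      rcases hk with hk | hk
      · rw [show sg q = sg p by rw [sg, sg, hk]]; ring
      · rw [show SporPerm.toMat M p q = 0 from hk]; ring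
    show _ / 8 = sg p * (_ / 8)
    rw [e1, hc, show sg p * (8 * c) = 8 * (sg p * c) by ring,
      Int.mul_ediv_cancel_left _ (by norm_num), Int.mul_ediv_cancel_left _ (by norm_num)]
  refine ⟨⟨g, hC⟩, Equiv.ext fun i => rootV_inj ?_⟩
  rw [rho_spec]
  refine Subtype.ext ?_
  rw [hg]
  show SporPerm.mapMat _ (emb (rootY i)) = emb (rootY (toPerm 8 240 e i))
  have h := allBelow_spec _ _ himg i i.2
  rw [SporPerm.eqV_iff, List.getD_eq_getElem _ _ (by rw [rootList_ok.1]; exact i.2),
    ((rep_toPerm hv) i).1, List.getD_eq_getElem _ _ (by rw [rootList_ok.1]; exact Fin.is_lt _)] at h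
  rw [rowDot_coords hs]
  unfold rootY
  rw [h]
  funext p
  rw [LeechMod.toVec, coords, SporPerm.getD_map_range _ (idx_lt p)]
  rfl

theorem gens_range : genGroup 8 240 e8Gens ≤ rho.range := by
  refine (Subgroup.closure_le _).2 fun σ hσ => ?_
  obtain ⟨e, he, rfl⟩ := List.mem_map.1 hσ
  obtain ⟨i, hi, rfl⟩ := List.mem_iff_getElem.1 he
  obtain ⟨h1, h2, h3, h4⟩ := e8_gen0
  obtain ⟨k1, k2, k3, k4, hlen⟩ := e8_gen1
  rw [← List.getD_eq_getElem _ (0, 0) hi]
  rw [hlen] at hi
  interval_cases i
  exacts [gen_mem_range h1 h2 h3 h4, gen_mem_range k1 k2 k3 k4]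

theorem group_facts : Nat.card Cc = 512 * 348364800 ∧ Nat.card rho.ker = 512 ∧
    checkCert 8 240 e8Gens e8Derived e8Levels = true ∧ rho.range = genGroup 8 240 e8Gens := by
  have hC := card_le
  have h := Subgroup.card_mul_index rho.ker
  rw [Subgroup.index_ker] at h
  have hker : 512 ≤ Nat.card rho.ker := by
    have := Nat.card_le_card_of_injective kElt kElt_inj
    simpa using this
  have hl := light_card_le e8_light
  rw [e8_order] at hl
  have hr : Nat.card (genGroup 8 240 e8Gens) ≤ Nat.card rho.range := Subgroup.card_le_of_le gens_range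
  have hs := squeeze hker (hl.trans hr) (h.le.trans hC) (by norm_num) (by norm_num)
  have hr' : Nat.card rho.range = 348364800 ∧ Nat.card rho.ker = 512 := ⟨hs.2, hs.1⟩
  refine ⟨?_, hr'.2, checkCert_of_light e8_light (by rw [e8_order]; omega), ?_⟩
  · rw [← h, hr'.1, hr'.2]
  · exact (Subgroup.eq_of_le_of_card_ge gens_range (by omega)).symm

theorem e8_cert : checkCert 8 240 e8Gens e8Derived e8Levels = true := group_facts.2.2.1

theorem kElt_surj : Function.Surjective kElt :=
  ((Nat.bijective_iff_injective_and_card kElt).2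
    ⟨kElt_inj, by rw [group_facts.2.1]; simp⟩).2

end Cfsg.Agent.E8Cent
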